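import Mathlib

/-! Subspace counting, flags and orbit counting for the rank three theorem. -/

set_option autoImplicit false

namespace Cfsg.Agent.R3

open scoped Pointwise
open Module

/-- q-integers -/
def θ (q k : ℕ) : ℕ := ∑ i ∈ Finset.range k, q ^ i

section Theta
variable {q : ℕ}

@[simp] theorem θ_zero : θ q 0 = 0 := rfl
@[simp] theorem θ_one : θ q 1 = 1 := by simp [θ]
theorem θ_succ (k : ℕ) : θ q (k + 1) = θ q k + q ^ k := Finset.sum_range_succ _ _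
theorem θ_two : θ q 2 = q + 1 := by simp [θ, Finset.sum_range_succ, add_comm]
theorem θ_three : θ q 3 = q ^ 2 + q + 1 := by simp [θ, Finset.sum_range_succ]; ring
theorem θ_four : θ q 4 = q ^ 3 + q ^ 2 + q + 1 := by simp [θ, Finset.sum_range_succ]; ring
theorem θ_add (a b : ℕ) : θ q (a + b) = θ q a + q ^ a * θ q b := by
  induction b with
  | zero => simp
  | succ b ih => rw [← add_assoc, θ_succ, ih, θ_succ]; ring
theorem θ_succ' (k : ℕ) : θ q (k + 1) = q * θ q k + 1 := by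
  rw [add_comm k, θ_add]; simp [add_comm]
theorem θ_mul_sub (hq : 1 ≤ q) (k : ℕ) : θ q k * (q - 1) = q ^ k - 1 := by
  obtain ⟨r, rfl⟩ := Nat.exists_eq_add_of_le hq
  have : ∀ k, θ (1 + r) k * r + 1 = (1 + r) ^ k := by
    intro k
    induction k with
    | zero => simp
    | succ k ih => rw [θ_succ, pow_succ, add_mul, add_right_comm, ih]; ring
  have h := this k
  simp only [add_tsub_cancel_left]
  omega
theorem θ_lt_pow (hq : 2 ≤ q) (k : ℕ) : θ q k < q ^ k := by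
  induction k with
  | zero => simp
  | succ k ih => rw [θ_succ, pow_succ]; nlinarith
theorem θ_strictMono (hq : 1 ≤ q) : StrictMono (θ q) :=
  strictMono_nat_of_lt_succ fun k => by
    rw [θ_succ]; exact Nat.lt_add_of_pos_right (pow_pos hq _)
theorem θ_lt (hq : 1 ≤ q) {a b : ℕ} (h : a < b) : θ q a < θ q b := θ_strictMono hq h
theorem θ_le (hq : 1 ≤ q) {a b : ℕ} (h : a ≤ b) : θ q a ≤ θ q b := (θ_strictMono hq).monotone h
theorem θ_pos (hq : 1 ≤ q) {a : ℕ} (h : 0 < a) : 0 < θ q a := θ_lt hq h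
theorem θ_coprime_q {k : ℕ} (hk : 0 < k) : Nat.Coprime (θ q k) q := by
  obtain ⟨k, rfl⟩ := Nat.exists_eq_add_of_lt hk
  rw [zero_add, θ_succ']
  simp
theorem θ_gcd (hq : 2 ≤ q) (a b : ℕ) : Nat.gcd (θ q a) (θ q b) = θ q (Nat.gcd a b) := by
  have h := Nat.pow_sub_one_gcd_pow_sub_one q a b
  rw [← θ_mul_sub (by omega), ← θ_mul_sub (by omega), ← θ_mul_sub (by omega),
    Nat.gcd_mul_right] at h
  exact Nat.eq_of_mul_eq_mul_right (by omega) h
theorem θ_coprime (hq : 2 ≤ q) {a b : ℕ} (h : Nat.Coprime a b) : Nat.Coprime (θ q a) (θ q b) := by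
  rw [Nat.Coprime, θ_gcd hq, h, θ_one]
theorem θ_not_dvd_mul (hq : 2 ≤ q) {m a b : ℕ} (ha : 0 < a) (ham : a < m) (hb : 0 < b)
    (hbm : b < m) : ¬ θ q m ∣ θ q a * θ q b := by
  intro h
  rw [← Nat.dvd_gcd_mul_gcd_iff_dvd_mul, θ_gcd hq, θ_gcd hq] at h
  have key : ∀ c, 0 < c → c < m → 0 < Nat.gcd m c ∧ 2 * Nat.gcd m c ≤ m := by
    intro c hc hcm
    have h1 := Nat.gcd_pos_of_pos_right m hc
    have h2 := Nat.le_of_dvd hc (Nat.gcd_dvd_right m c)
    obtain ⟨t, ht⟩ := Nat.gcd_dvd_left m c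
    refine ⟨h1, ?_⟩
    have : 2 ≤ t := by
      by_contra h3
      have : t = 0 ∨ t = 1 := by omega
      rcases this with rfl | rfl <;> omega
    nlinarith
  obtain ⟨h1, h2⟩ := key a ha ham
  obtain ⟨h3, h4⟩ := key b hb hbm
  have h5 := Nat.le_of_dvd (mul_pos (θ_pos (by omega) h1) (θ_pos (by omega) h3)) h
  have h6 := θ_le (q := q) (by omega) (show Nat.gcd m a + Nat.gcd m b ≤ m by omega)
  rw [θ_add] at h6
  have h7 := θ_lt_pow hq (Nat.gcd m a)
  have h8 := θ_pos (q := q) (by omega) h3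
  nlinarith
theorem θ_odd_mod (k : ℕ) : θ q (2 * k + 1) ≡ 1 [MOD θ q 2] := by
  induction k with
  | zero => simp [Nat.ModEq]
  | succ k ih =>
    rw [show 2 * (k + 1) + 1 = (2 * k + 1) + 2 by ring, θ_add]
    exact (Nat.modEq_zero_iff_dvd.2 (Dvd.intro_left _ rfl)).add_left _ |>.trans ih
theorem even_of_θ_two_dvd (hq : 1 ≤ q) {a b : ℕ} (h : θ q 2 ∣ θ q a * θ q b) : Even a ∨ Even b := by
  by_contra hc
  push Not at hc
  obtain ⟨k, rfl⟩ := Nat.not_even_iff_odd.1 hc.1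
  obtain ⟨l, rfl⟩ := Nat.not_even_iff_odd.1 hc.2
  have h1 := ((θ_odd_mod (q := q) k).mul (θ_odd_mod l)).symm.trans (Nat.modEq_zero_iff_dvd.2 h)
  have h2 := Nat.le_of_dvd one_pos (Nat.modEq_zero_iff_dvd.1 h1)
  rw [θ_two] at h2; omega

end Theta

/-- double counting -/
theorem dc {α β : Type*} [Finite α] [Finite β] (S : Set α) (T : Set β) (R : α → β → Prop)
    {a b : ℕ} (ha : ∀ x ∈ S, {y | y ∈ T ∧ R x y}.ncard = a)
    (hb : ∀ y ∈ T, {x | x ∈ S ∧ R x y}.ncard = b) : S.ncard * a = T.ncard * b := by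
  classical
  rw [Set.ncard_eq_toFinset_card S, Set.ncard_eq_toFinset_card T]
  refine Finset.card_mul_eq_card_mul R (fun x hx => ?_) (fun y hy => ?_)
  · rw [← ha x (by simpa using hx), Set.ncard_eq_toFinset_card]
    congr 1; ext y; simp
  · rw [← hb y (by simpa using hy), Set.ncard_eq_toFinset_card]
    congr 1; ext y; simp

/-- double counting, inequality form -/
theorem dc_le {α β : Type*} [Finite α] [Finite β] (S : Set α) (T : Set β) (R : α → β → Prop)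
    {a b : ℕ} (ha : ∀ x ∈ S, a ≤ {y | y ∈ T ∧ R x y}.ncard)
    (hb : ∀ y ∈ T, {x | x ∈ S ∧ R x y}.ncard ≤ b) : S.ncard * a ≤ T.ncard * b := by
  classical
  rw [Set.ncard_eq_toFinset_card S, Set.ncard_eq_toFinset_card T]
  refine Finset.card_mul_le_card_mul R (fun x hx => ?_) (fun y hy => ?_)
  · refine (ha x (by simpa using hx)).trans_eq ?_
    rw [Set.ncard_eq_toFinset_card]
    congr 1; ext y; simp
  · refine Eq.trans_le ?_ (hb y (by simpa using hy))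
    rw [Set.ncard_eq_toFinset_card]
    congr 1; ext y; simp

theorem ncard_split {α : Type*} [Finite α] (S : Set α) (P : α → Prop) :
    {x | x ∈ S ∧ P x}.ncard + {x | x ∈ S ∧ ¬ P x}.ncard = S.ncard := by
  rw [← Set.ncard_union_eq (Set.disjoint_left.2 fun x h1 h2 => h2.2 h1.2)]
  congr 1; ext x; by_cases h : P x <;> simp [h]

theorem ncard_eq_one_of {α : Type*} {S : Set α} (a : α) (ha : a ∈ S) (h : ∀ b ∈ S, b = a) :
    S.ncard = 1 := Set.ncard_eq_one.2 ⟨a, Set.eq_singleton_iff_unique_mem.2 ⟨ha, h⟩⟩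

theorem ncard_eq_zero_of {α : Type*} {S : Set α} (h : ∀ b ∈ S, False) : S.ncard = 0 := by
  rw [Set.eq_empty_of_forall_notMem h]; simp

theorem exists_of_ncard_lt {α : Type*} [Finite α] {S T : Set α} (h : S.ncard < T.ncard) :
    ∃ a ∈ T, a ∉ S := Set.exists_mem_notMem_of_ncard_lt_ncard h

section Geo
variable {F V : Type*} [Field F] [AddCommGroup V] [Module F V]

/-- dimension of a subspace -/
noncomputable abbrev dm (A : Submodule F V) : ℕ := finrank F A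

variable [FiniteDimensional F V] {A B C D P Y X : Submodule F V}

theorem dm_mono (h : A ≤ B) : dm A ≤ dm B := Submodule.finrank_mono h
theorem dm_lt (h : A < B) : dm A < dm B := Submodule.finrank_lt_finrank_of_lt h
theorem eq_of_dm (h : A ≤ B) (h' : dm B ≤ dm A) : A = B := Submodule.eq_of_le_of_finrank_le h h'
theorem dm_lt_of_not_le (h : A ≤ B) (h' : ¬ B ≤ A) : dm A < dm B := dm_lt (lt_of_le_not_ge h h')
theorem dm_sup_inf (A B : Submodule F V) : dm (A ⊔ B) + dm (A ⊓ B) = dm A + dm B :=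
  Submodule.finrank_sup_add_finrank_inf_eq A B
omit [FiniteDimensional F V] in
theorem dm_top : dm (⊤ : Submodule F V) = finrank F V := finrank_top F V
omit [FiniteDimensional F V] in
theorem dm_bot : dm (⊥ : Submodule F V) = 0 := finrank_bot F V
theorem dm_le (A : Submodule F V) : dm A ≤ finrank F V := Submodule.finrank_le A
theorem eq_bot_of_dm (h : dm A = 0) : A = ⊥ := Submodule.finrank_eq_zero.1 h
theorem eq_top_of_dm (h : finrank F V ≤ dm A) : A = ⊤ := eq_of_dm le_top (by rwa [dm_top])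

theorem dm_sup_span {v : V} (hv : v ∉ A) : dm (A ⊔ F ∙ v) = dm A + 1 := by
  have h := dm_sup_inf A (F ∙ v)
  have h0 : v ≠ 0 := by rintro rfl; exact hv A.zero_mem
  rw [(Submodule.disjoint_span_singleton_of_notMem hv).eq_bot, dm_bot,
    show dm (F ∙ v) = 1 from finrank_span_singleton h0] at h
  exact h

theorem exists_pt (hA : A ≤ B) (hC : A ≤ C) (h : ¬ B ≤ C) :
    ∃ P, A ≤ P ∧ P ≤ B ∧ dm P = dm A + 1 ∧ ¬ P ≤ C := by
  obtain ⟨v, hv, hv'⟩ := Set.not_subset.1 h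
  refine ⟨A ⊔ F ∙ v, le_sup_left, sup_le hA ((Submodule.span_singleton_le_iff_mem _ _).2 hv),
    dm_sup_span fun h => hv' (hC h), fun h => hv' (h ?_)⟩
  exact Submodule.mem_sup_right (Submodule.mem_span_singleton_self v)

theorem le_of_pts (hA : A ≤ B) (hC : A ≤ C)
    (h : ∀ P, A ≤ P → P ≤ B → dm P = dm A + 1 → P ≤ C) : B ≤ C := by
  by_contra hc
  obtain ⟨P, h1, h2, h3, h4⟩ := exists_pt hA hC hc
  exact h4 (h P h1 h2 h3)

theorem exists_btw (h : A ≤ B) {k : ℕ} (h1 : dm A ≤ k) (h2 : k ≤ dm B) :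
    ∃ P, A ≤ P ∧ P ≤ B ∧ dm P = k := by
  induction k, h1 using Nat.le_induction with
  | base => exact ⟨A, le_rfl, h, rfl⟩
  | succ k h1 ih =>
    obtain ⟨P, h3, h4, h5⟩ := ih (by omega)
    obtain ⟨Q, h6, h7, h8, -⟩ := exists_pt h4 le_rfl (fun h => by have := dm_mono h; omega)
    exact ⟨Q, h3.trans h6, h7, by omega⟩

theorem exists_above (A : Submodule F V) {k : ℕ} (h1 : dm A ≤ k) (h2 : k ≤ finrank F V) :
    ∃ P, A ≤ P ∧ dm P = k := by
  obtain ⟨P, h3, -, h4⟩ := exists_btw (le_top : A ≤ ⊤) h1 (by rwa [dm_top])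
  exact ⟨P, h3, h4⟩

/-- a point over `D` outside `X` -/
theorem pt_inf (hP : D ≤ P) (hd : dm P = dm D + 1) (hX : D ≤ X) (h : ¬ P ≤ X) : P ⊓ X = D := by
  have h1 : dm (P ⊓ X) < dm P := dm_lt_of_not_le inf_le_left fun h' => h (h'.trans inf_le_right)
  exact (eq_of_dm (le_inf hP hX) (by omega)).symm

theorem pt_sup (hP : D ≤ P) (hd : dm P = dm D + 1) (hX : D ≤ X) (h : ¬ P ≤ X) :
    dm (P ⊔ X) = dm X + 1 := by
  have := dm_sup_inf P X
  rw [pt_inf hP hd hX h] at this; omega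

/-- a hyperplane `P` of `Y` not containing `X` -/
theorem hp_sup (hP : P ≤ Y) (hd : dm P + 1 = dm Y) (hX : X ≤ Y) (h : ¬ X ≤ P) : X ⊔ P = Y := by
  have h1 : dm P < dm (X ⊔ P) := dm_lt_of_not_le le_sup_right fun h' => h (le_sup_left.trans h')
  exact eq_of_dm (sup_le hX hP) (by omega)

theorem hp_inf (hP : P ≤ Y) (hd : dm P + 1 = dm Y) (hX : X ≤ Y) (h : ¬ X ≤ P) :
    dm (X ⊓ P) + 1 = dm X := by
  have := dm_sup_inf X P
  rw [hp_sup hP hd hX h] at this; omega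

theorem not_le_of_ne (hd : dm A = dm B) (h : A ≠ B) : ¬ A ≤ B := fun h' => h (eq_of_dm h' hd.ge)

end Geo

section Count
variable {F V : Type*} [Field F] [Fintype F] [AddCommGroup V] [Module F V] [Finite V]

instance : Finite (Submodule F V) := Finite.of_injective _ SetLike.coe_injective

theorem two_le_q : 2 ≤ Fintype.card F := Fintype.one_lt_card
theorem one_le_q : 1 ≤ Fintype.card F := Fintype.card_pos

theorem ncard_sub (A : Submodule F V) : (A : Set V).ncard = Fintype.card F ^ dm A := by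
  rw [← Nat.card_coe_set_eq, ← Nat.card_eq_fintype_card]
  exact Module.natCard_eq_pow_finrank

theorem ncard_sdiff {A B : Submodule F V} (h : A ≤ B) :
    {v | v ∈ B ∧ v ∉ A}.ncard = Fintype.card F ^ dm B - Fintype.card F ^ dm A := by
  rw [← ncard_sub, ← ncard_sub, ← Set.ncard_sdiff h]; rfl

/-- number of points over `D` in `Y` -/
theorem card_up {D Y : Submodule F V} (h : D ≤ Y) :
    {P | D ≤ P ∧ P ≤ Y ∧ dm P = dm D + 1}.ncard = θ (Fintype.card F) (dm Y - dm D) := by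
  have h1 := dc {v | v ∈ Y ∧ v ∉ D} {P | D ≤ P ∧ P ≤ Y ∧ dm P = dm D + 1} (fun v P => v ∈ P)
    (a := 1) (b := Fintype.card F ^ (dm D + 1) - Fintype.card F ^ dm D) ?_ ?_
  · obtain ⟨m, hm⟩ := Nat.exists_eq_add_of_le (dm_mono h)
    rw [ncard_sdiff h, hm, pow_add, pow_succ, mul_one, ← Nat.mul_sub_one, ← Nat.mul_sub_one,
      ← θ_mul_sub one_le_q] at h1
    rw [hm, add_tsub_cancel_left]
    have h2 : 0 < Fintype.card F ^ dm D * (Fintype.card F - 1) :=
      mul_pos (pow_pos one_le_q _) (by have := two_le_q (F := F); omega)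
    exact Nat.eq_of_mul_eq_mul_right h2 (by rw [← h1]; ring)
  · rintro v ⟨hv, hv'⟩
    have hm : v ∈ D ⊔ F ∙ v := Submodule.mem_sup_right (Submodule.mem_span_singleton_self v)
    refine ncard_eq_one_of (D ⊔ F ∙ v) ⟨⟨le_sup_left,
      sup_le h ((Submodule.span_singleton_le_iff_mem _ _).2 hv), dm_sup_span hv'⟩, hm⟩ ?_
    rintro P ⟨⟨h1, -, h3⟩, h4⟩
    exact (eq_of_dm (sup_le h1 ((Submodule.span_singleton_le_iff_mem _ _).2 h4))
      (by rw [dm_sup_span hv', h3])).symm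
  · rintro P ⟨h1, h2, h3⟩
    rw [← h3, ← ncard_sdiff h1]
    congr 1; ext v
    exact ⟨fun h => ⟨h.2, h.1.2⟩, fun h => ⟨⟨h2 h.1, h.2⟩, h.1⟩⟩

theorem card_up' {D Y : Submodule F V} (h : D ≤ Y) {k m : ℕ} (hk : k = dm D + 1)
    (hm : dm Y = dm D + m) : {P | D ≤ P ∧ P ≤ Y ∧ dm P = k}.ncard = θ (Fintype.card F) m := by
  rw [hk, card_up h, hm, add_tsub_cancel_left]

/-- number of hyperplanes of `Y` over `D` -/
theorem card_dn' {D Y : Submodule F V} (h : D ≤ Y) {k m : ℕ} (hk : k + 1 = dm Y)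
    (hm : dm Y = dm D + m) : {P | D ≤ P ∧ P ≤ Y ∧ dm P = k}.ncard = θ (Fintype.card F) m := by
  induction m generalizing D with
  | zero =>
    refine ncard_eq_zero_of ?_
    rintro P ⟨h1, -, h3⟩
    have := dm_mono h1; omega
  | succ m ih =>
    rcases Nat.eq_zero_or_pos m with rfl | h0
    · rw [zero_add, θ_one]
      exact ncard_eq_one_of D ⟨le_rfl, h, by omega⟩ fun P hP =>
        (eq_of_dm hP.1 (by have := hP.2.2; omega)).symm
    have h1 := dc {P | D ≤ P ∧ P ≤ Y ∧ dm P = k} {P | D ≤ P ∧ P ≤ Y ∧ dm P = dm D + 1}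
      (fun H P => P ≤ H) (a := θ (Fintype.card F) m) (b := θ (Fintype.card F) m) ?_ ?_
    · rw [card_up' h rfl hm] at h1
      exact Nat.eq_of_mul_eq_mul_right (θ_pos one_le_q h0) h1
    · rintro H ⟨h1, h2, h3⟩
      rw [← card_up' h1 rfl (by omega)]
      congr 1; ext P
      exact ⟨fun h => ⟨h.1.1, h.2, h.1.2.2⟩, fun h => ⟨⟨h.1, h.2.1.trans h2, h.2.2⟩, h.2.1⟩⟩
    · rintro P ⟨h1, h2, h3⟩
      rw [← ih h2 (by omega)]
      congr 1; ext H
      exact ⟨fun h => ⟨h.2, h.1.2⟩, fun h => ⟨⟨h1.trans h.1, h.2⟩, h.1⟩⟩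

end Count

section Act
variable {F V Γ : Type*} [Field F] [AddCommGroup V] [Module F V] [Group Γ]
  [DistribMulAction Γ V] [SMulCommClass Γ F V]

theorem mem_smul_iff (g : Γ) (A : Submodule F V) (v : V) : v ∈ g • A ↔ g⁻¹ • v ∈ A := by
  rw [Submodule.mem_smul_pointwise_iff_exists]
  exact ⟨by rintro ⟨b, hb, rfl⟩; simpa using hb, fun h => ⟨_, h, by simp⟩⟩

@[simp] theorem smul_mem_smul (g : Γ) (A : Submodule F V) (v : V) : g • v ∈ g • A ↔ v ∈ A := by
  simp [mem_smul_iff]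

@[simp] theorem smul_le_smul (g : Γ) (A B : Submodule F V) : g • A ≤ g • B ↔ A ≤ B :=
  ⟨fun h v hv => (smul_mem_smul g B v).1 (h ((smul_mem_smul g A v).2 hv)),
   fun h v hv => (mem_smul_iff g B v).2 (h ((mem_smul_iff g A v).1 hv))⟩

theorem smul_inf (g : Γ) (A B : Submodule F V) : g • (A ⊓ B) = g • A ⊓ g • B := by
  ext v; simp [mem_smul_iff]

theorem smul_sup (g : Γ) (A B : Submodule F V) : g • (A ⊔ B) = g • A ⊔ g • B :=
  Submodule.smul_sup' g A B

@[simp] theorem smul_top (g : Γ) : g • (⊤ : Submodule F V) = ⊤ := by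
  ext v; simp [mem_smul_iff]

@[simp] theorem smul_bot (g : Γ) : g • (⊥ : Submodule F V) = ⊥ := Submodule.smul_bot' g

@[simp] theorem dm_smul (g : Γ) (A : Submodule F V) : finrank F ↥(g • A) = finrank F A :=
  LinearEquiv.finrank_map_eq (DistribMulAction.toLinearEquiv F V g) A

theorem smul_le_iff (g : Γ) (A B : Submodule F V) : g • A ≤ B ↔ A ≤ g⁻¹ • B := by
  rw [← smul_le_smul g A, smul_inv_smul]

theorem le_smul_iff (g : Γ) (A B : Submodule F V) : A ≤ g • B ↔ g⁻¹ • A ≤ B := by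
  rw [← smul_le_smul g _ B, smul_inv_smul]

end Act

section Orb
variable (Γ : Type*) {Y Z : Type*} [Group Γ] [MulAction Γ Y] [MulAction Γ Z]

/-- being in the same orbit -/
def Eqv (x y : Y) : Prop := ∃ g : Γ, g • x = y

/-- the number of orbits meeting `S` -/
noncomputable def NN (S : Set Y) : ℕ := (Quotient.mk (MulAction.orbitRel Γ Y) '' S).ncard

variable {Γ}

theorem Eqv.refl (x : Y) : Eqv Γ x x := ⟨1, one_smul _ _⟩
theorem Eqv.symm {x y : Y} (h : Eqv Γ x y) : Eqv Γ y x := by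
  obtain ⟨g, rfl⟩ := h; exact ⟨g⁻¹, inv_smul_smul _ _⟩
theorem Eqv.trans {x y z : Y} (h : Eqv Γ x y) (h' : Eqv Γ y z) : Eqv Γ x z := by
  obtain ⟨g, rfl⟩ := h; obtain ⟨g', rfl⟩ := h'; exact ⟨g' * g, mul_smul _ _ _⟩
theorem eqv_smul (g : Γ) (x y : Y) : Eqv Γ x (g • y) ↔ Eqv Γ x y :=
  ⟨fun h => h.trans (Eqv.symm ⟨g, rfl⟩), fun h => h.trans ⟨g, rfl⟩⟩
theorem mk_eq_iff {x y : Y} : Quotient.mk (MulAction.orbitRel Γ Y) x =
    Quotient.mk (MulAction.orbitRel Γ Y) y ↔ Eqv Γ x y :=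
  ⟨fun h => Eqv.symm (Quotient.exact h), fun h => Quotient.sound (Eqv.symm h)⟩

theorem ncard_eq_of_smul (g : Γ) {S T : Set Y} (h : ∀ y, g • y ∈ T ↔ y ∈ S) :
    T.ncard = S.ncard := by
  rw [← Set.ncard_image_of_injective S (MulAction.injective g)]
  congr 1; ext y
  constructor
  · intro hy; exact ⟨g⁻¹ • y, (h _).1 (by simpa using hy), by simp⟩
  · rintro ⟨x, hx, rfl⟩; exact (h _).2 hx

variable [Finite Y] {S : Set Y}

theorem NN_pos (h : S.Nonempty) : 0 < NN Γ S :=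
  (Set.ncard_pos (Set.toFinite _)).2 (h.image _)

theorem eqv_of_NN (h : NN Γ S ≤ 1) {x y : Y} (hx : x ∈ S) (hy : y ∈ S) : Eqv Γ x y :=
  mk_eq_iff.1 ((Set.ncard_le_one (Set.toFinite _)).1 h _ ⟨x, hx, rfl⟩ _ ⟨y, hy, rfl⟩)

theorem NN_le_one (h : ∀ x ∈ S, ∀ y ∈ S, Eqv Γ x y) : NN Γ S ≤ 1 := by
  refine (Set.ncard_le_one (Set.toFinite _)).2 ?_
  rintro _ ⟨x, hx, rfl⟩ _ ⟨y, hy, rfl⟩
  exact mk_eq_iff.2 (h x hx y hy)

theorem exists_not_eqv (h : 2 ≤ NN Γ S) : ∃ x ∈ S, ∃ y ∈ S, ¬ Eqv Γ x y := by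
  by_contra hc
  push Not at hc
  have := NN_le_one hc; omega

/-- an invariant taking `m` values forces at least `m` orbits -/
theorem inv_le (inv : Y → ℕ) (hinv : ∀ (g : Γ) x, inv (g • x) = inv x) {m : ℕ}
    (hex : ∀ i < m, ∃ x ∈ S, inv x = i) : m ≤ NN Γ S := by
  let f : MulAction.orbitRel.Quotient Γ Y → ℕ := Quotient.lift inv (by
    rintro _ b ⟨g, rfl⟩; exact hinv g b)
  have h1 : (Finset.range m : Set ℕ) ⊆ f '' (Quotient.mk (MulAction.orbitRel Γ Y) '' S) := by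
    intro i hi
    obtain ⟨x, hx, rfl⟩ := hex i (by simpa using hi)
    exact ⟨_, ⟨x, hx, rfl⟩, rfl⟩
  have h2 := (Set.ncard_le_ncard h1 (Set.toFinite _)).trans (Set.ncard_image_le (Set.toFinite _))
  rwa [Set.ncard_coe_finset, Finset.card_range] at h2

/-- if the invariant takes as many values as there are orbits, it is a complete invariant -/
theorem eqv_of_inv (inv : Y → ℕ) (hinv : ∀ (g : Γ) x, inv (g • x) = inv x) {m : ℕ}
    (hm : NN Γ S ≤ m) (hex : ∀ i < m, ∃ x ∈ S, inv x = i) {x y : Y} (hx : x ∈ S) (hy : y ∈ S)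
    (h : inv x = inv y) : Eqv Γ x y := by
  classical
  by_contra hc
  have := inv_le (S := S) (Γ := Γ) (fun z => if Eqv Γ y z then m else inv z)
    (fun g z => by simp only [eqv_smul, hinv]) (m := m + 1) fun i hi => by
      rcases (Nat.lt_succ_iff_lt_or_eq).1 hi with hi | rfl
      · obtain ⟨z, hz, rfl⟩ := hex i hi
        by_cases h1 : Eqv Γ y z
        · obtain ⟨g, rfl⟩ := h1
          exact ⟨x, hx, by rw [if_neg fun h => hc h.symm, hinv, h]⟩
        · exact ⟨z, hz, if_neg h1⟩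
      · exact ⟨y, hy, if_pos (Eqv.refl y)⟩
  omega

/-- two split classes -/
theorem split2 [Finite Z] {T : Set Z} (p : Y → Z) (hp : ∀ (g : Γ) y, p (g • y) = g • p y)
    (hs : ∀ z ∈ T, ∃ y ∈ S, p y = z) {a a' b b' : Y} (ha : a ∈ S) (ha' : a' ∈ S) (hb : b ∈ S)
    (hb' : b' ∈ S) (h1 : p a = p a') (h2 : p b = p b') (h3 : ¬ Eqv Γ a a') (h4 : ¬ Eqv Γ b b')
    (h5 : ¬ Eqv Γ (p a) (p b)) : NN Γ T + 2 ≤ NN Γ S := by
  let f : MulAction.orbitRel.Quotient Γ Y → MulAction.orbitRel.Quotient Γ Z :=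
    Quotient.map p (by rintro _ b ⟨g, rfl⟩; exact ⟨g, (hp g b).symm⟩)
  have he : ∀ {x y : Y}, Eqv Γ x y → Eqv Γ (p x) (p y) := by
    rintro x _ ⟨g, rfl⟩; exact ⟨g, (hp g x).symm⟩
  set mk := Quotient.mk (MulAction.orbitRel Γ Y) with hmk
  have h6 : Quotient.mk (MulAction.orbitRel Γ Z) '' T ⊆ f '' ((mk '' S) \ {mk a', mk b'}) := by
    rintro _ ⟨z, hz, rfl⟩
    obtain ⟨y, hy, rfl⟩ := hs z hz
    by_cases e1 : Eqv Γ y a'
    · refine ⟨mk a, ⟨⟨a, ha, rfl⟩, ?_⟩, mk_eq_iff.2 (h1 ▸ (he e1).symm)⟩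
      rintro (h | h)
      · exact h3 (mk_eq_iff.1 h)
      · exact h5 (h2 ▸ he (mk_eq_iff.1 h))
    by_cases e2 : Eqv Γ y b'
    · refine ⟨mk b, ⟨⟨b, hb, rfl⟩, ?_⟩, mk_eq_iff.2 (h2 ▸ (he e2).symm)⟩
      rintro (h | h)
      · exact h5 (h1 ▸ (he (mk_eq_iff.1 h)).symm)
      · exact h4 (mk_eq_iff.1 h)
    refine ⟨mk y, ⟨⟨y, hy, rfl⟩, ?_⟩, rfl⟩
    rintro (h | h)
    · exact e1 (mk_eq_iff.1 h)
    · exact e2 (mk_eq_iff.1 h)
  have h7 := (Set.ncard_le_ncard h6 (Set.toFinite _)).trans (Set.ncard_image_le (Set.toFinite _))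
  have h8 : ({mk a', mk b'} : Set _) ⊆ mk '' S := by
    rintro _ (rfl | rfl)
    · exact ⟨a', ha', rfl⟩
    · exact ⟨b', hb', rfl⟩
  have h9 : mk a' ≠ mk b' := fun h => h5 (h1 ▸ h2 ▸ he (mk_eq_iff.1 h))
  have h10 := Set.ncard_sdiff_add_ncard_of_subset h8 (Set.toFinite _)
  rw [Set.ncard_pair h9] at h10
  change (Quotient.mk _ '' T).ncard + 2 ≤ (mk '' S).ncard
  omega

end Orb

/-- four step flags -/
def Fl (F V : Type*) [Field F] [AddCommGroup V] [Module F V] (a b c e : ℕ) :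
    Set (Submodule F V × Submodule F V × Submodule F V × Submodule F V) :=
  {x | x.1 ≤ x.2.1 ∧ x.2.1 ≤ x.2.2.1 ∧ x.2.2.1 ≤ x.2.2.2 ∧ dm x.1 = a ∧ dm x.2.1 = b ∧
    dm x.2.2.1 = c ∧ dm x.2.2.2 = e}

theorem eqv_iff {F V Γ : Type*} [Field F] [AddCommGroup V] [Module F V] [Group Γ]
    [DistribMulAction Γ V] [SMulCommClass Γ F V] {A B C D A' B' C' D' : Submodule F V} :
    Eqv Γ (A, B, C, D) (A', B', C', D') ↔
      ∃ g : Γ, g • A = A' ∧ g • B = B' ∧ g • C = C' ∧ g • D = D' := by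
  simp [Eqv, Prod.ext_iff]

end Cfsg.Agent.R3
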