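import Mathlib

/-! An irreducible endomorphism of a finite vector space: its centraliser is a field. -/

set_option autoImplicit false

namespace Cfsg.Agent.R3

open Module Polynomial

variable {F W : Type*} [Field F] [Fintype F] [AddCommGroup W] [Module F W] [Finite W]

/-- irreducible endomorphism -/
def Irr (γ : End F W) : Prop :=
  ∀ U : Submodule F W, (∀ w ∈ U, γ w ∈ U) → U = ⊥ ∨ U = ⊤

namespace Irr

variable {γ : End F W} (h : Irr γ)
include h

omit [Fintype F] [Finite W] in
theorem inj {α : End F W} (hc : Commute α γ) (h0 : α ≠ 0) : Function.Injective α := by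
  rw [← LinearMap.ker_eq_bot]
  rcases h (LinearMap.ker α) (fun w hw => by
    rw [LinearMap.mem_ker] at hw ⊢
    rw [← End.mul_apply, hc.eq, End.mul_apply, hw, map_zero]) with h1 | h1
  · exact h1
  · exact absurd (LinearMap.ker_eq_top.mp h1) h0

omit [Fintype F] [Finite W] in
theorem poly {α : End F W} (hc : Commute α γ) : ∃ P : F[X], α = aeval γ P := by
  rcases subsingleton_or_nontrivial W with hW | hW
  · exact ⟨0, Subsingleton.elim _ _⟩
  obtain ⟨w, hw⟩ := exists_ne (0 : W)
  let ev : F[X] →ₗ[F] W := (LinearMap.applyₗ w).comp (aeval γ).toLinearMap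
  have hev : ∀ P, ev P = aeval γ P w := fun P => rfl
  rcases h (LinearMap.range ev) (by
    rintro _ ⟨P, rfl⟩
    exact ⟨X * P, by rw [hev, hev, map_mul, aeval_X, End.mul_apply]⟩) with h1 | h1
  · exfalso
    apply hw
    rw [← Submodule.mem_bot F, ← h1]
    exact ⟨1, by rw [hev]; simp⟩
  · obtain ⟨P, hP⟩ : α w ∈ LinearMap.range ev := by rw [h1]; trivial
    refine ⟨P, ?_⟩
    by_contra hne
    have hc2 : Commute (α - aeval γ P) γ := by
      refine hc.sub_left ?_
      have : Commute (aeval γ P) (aeval γ (X : F[X])) := by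
        change _ * _ = _ * _
        rw [← map_mul, ← map_mul, mul_comm]
      rwa [aeval_X] at this
    have := h.inj hc2 (sub_ne_zero.mpr hne)
    apply hw
    apply this
    rw [map_zero, LinearMap.sub_apply, ← hev, hP, sub_self]

omit [Fintype F] [Finite W] in
theorem comm {α β : End F W} (ha : Commute α γ) (hb : Commute β γ) : Commute α β := by
  obtain ⟨P, rfl⟩ := h.poly ha
  obtain ⟨Q, rfl⟩ := h.poly hb
  change _ * _ = _ * _
  rw [← map_mul, ← map_mul, mul_comm]

omit [Fintype F] [Finite W] h in
theorem mem_cent {α : End F W} : α ∈ Subalgebra.centralizer F {γ} ↔ Commute α γ := by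
  rw [Subalgebra.mem_centralizer_iff]
  simp [Commute, SemiconjBy, eq_comm]

omit [Fintype F] in
theorem isField [Nontrivial W] : IsField (Subalgebra.centralizer F {γ}) := by
  have : Finite (End F W) := Finite.of_injective (fun f : End F W => (f : W → W)) DFunLike.coe_injective
  have : NoZeroDivisors (Subalgebra.centralizer F {γ}) := ⟨fun {a b} hab => by
    by_cases ha : a = 0
    · exact Or.inl ha
    · right
      have := h.inj (mem_cent.mp a.2) (fun h0 => ha (Subtype.ext h0))
      apply Subtype.ext
      ext w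
      apply this
      have h2 := congrArg (fun f : Subalgebra.centralizer F {γ} => (f : End F W) w) hab
      simpa using h2⟩
  have : IsDomain (Subalgebra.centralizer F {γ}) := NoZeroDivisors.to_isDomain _
  exact Finite.isDomain_to_isField _

omit [Fintype F] [Finite W] in
theorem finrank_cent [Nontrivial W] : finrank F (Subalgebra.centralizer F {γ}) = finrank F W := by
  obtain ⟨w, hw⟩ := exists_ne (0 : W)
  let ev : Subalgebra.centralizer F {γ} →ₗ[F] W :=
    (LinearMap.applyₗ w).comp (Subalgebra.centralizer F {γ}).val.toLinearMap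
  have hev : ∀ a, ev a = (a : End F W) w := fun a => rfl
  refine (LinearEquiv.ofBijective ev ⟨?_, ?_⟩).finrank_eq
  · rw [injective_iff_map_eq_zero]
    intro a ha
    by_contra h0
    have := h.inj (mem_cent.mp a.2) (fun h1 => h0 (Subtype.ext h1))
    exact hw (this (by rw [map_zero, ← hev, ha]))
  · rw [← LinearMap.range_eq_top]
    rcases h (LinearMap.range ev) (by
      rintro _ ⟨a, rfl⟩
      exact ⟨⟨γ, mem_cent.mpr (Commute.refl γ)⟩ * a, rfl⟩) with h1 | h1
    · exfalso
      apply hw
      rw [← Submodule.mem_bot F, ← h1]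
      exact ⟨1, rfl⟩
    · exact h1

theorem pow_eq_one {α : End F W} (hc : Commute α γ) (h0 : α ≠ 0) :
    α ^ (Fintype.card F ^ finrank F W - 1) = 1 := by
  have : Nontrivial W := by
    by_contra hn
    rw [not_nontrivial_iff_subsingleton] at hn
    exact h0 (Subsingleton.elim _ _)
  have : Finite (End F W) := Finite.of_injective (fun f : End F W => (f : W → W)) DFunLike.coe_injective
  letI := h.isField.toField
  have := Fintype.ofFinite (Subalgebra.centralizer F {γ})
  have h1 := FiniteField.pow_card_sub_one_eq_one (K := Subalgebra.centralizer F {γ})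
    ⟨α, mem_cent.mpr hc⟩ (fun h1 => h0 (congrArg Subtype.val h1))
  rw [Module.card_eq_pow_finrank (K := F), h.finrank_cent] at h1
  exact congrArg Subtype.val h1

omit [Fintype F] in
theorem mem_powers {α β : End F W} (ha : Commute α γ) (hb : Commute β γ) {r : ℕ} (hr : r.Prime)
    (h1 : α ^ r = 1) (h2 : β ^ r = 1) (h0 : α ≠ 1) : ∃ i, β = α ^ i := by
  have : Nontrivial W := by
    by_contra hn
    rw [not_nontrivial_iff_subsingleton] at hn
    exact h0 (Subsingleton.elim _ _)
  letI := h.isField.toField
  have : Fact r.Prime := ⟨hr⟩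
  have : NeZero r := ⟨hr.ne_zero⟩
  let a : Subalgebra.centralizer F {γ} := ⟨α, mem_cent.mpr ha⟩
  let b : Subalgebra.centralizer F {γ} := ⟨β, mem_cent.mpr hb⟩
  have h3 : orderOf a = r := orderOf_eq_prime (Subtype.ext h1) (fun h => h0 (congrArg Subtype.val h))
  have h4 : IsPrimitiveRoot a r := h3 ▸ IsPrimitiveRoot.orderOf a
  obtain ⟨i, -, hi⟩ := h4.eq_pow_of_pow_eq_one (ξ := b) (Subtype.ext h2)
  exact ⟨i, (congrArg Subtype.val hi).symm⟩

theorem norm_pow {ν ν' : End F W} (h1 : ν * ν' = 1) (h2 : ν' * ν = 1)
    (hn : ∀ α, Commute α γ → Commute (ν * α * ν') γ) : Commute (ν ^ finrank F W) γ := by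
  rcases subsingleton_or_nontrivial W with hW | hW
  · exact Subsingleton.elim _ _
  have : Finite (End F W) := Finite.of_injective (fun f : End F W => (f : W → W)) DFunLike.coe_injective
  letI := h.isField.toField
  let σ : Subalgebra.centralizer F {γ} →ₐ[F] Subalgebra.centralizer F {γ} :=
    { toFun := fun a => ⟨ν * a * ν', mem_cent.mpr (hn _ (mem_cent.mp a.2))⟩
      map_one' := Subtype.ext (by simpa using h1)
      map_mul' := fun a b => Subtype.ext (by
        change ν * ((a : End F W) * b) * ν' = ν * a * ν' * (ν * b * ν')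
        calc _ = ν * a * (ν' * ν) * b * ν' := by rw [h2]; simp [mul_assoc]
          _ = _ := by simp [mul_assoc])
      map_zero' := Subtype.ext (by simp)
      map_add' := fun a b => Subtype.ext (by simp [mul_add, add_mul])
      commutes' := fun c => Subtype.ext (by
        change ν * algebraMap F (End F W) c * ν' = algebraMap F (End F W) c
        rw [← Algebra.commutes, mul_assoc, h1, mul_one]) }
  have hinj : Function.Injective σ := σ.toRingHom.injective
  let τ := AlgEquiv.ofBijective σ ⟨hinj, Finite.surjective_of_injective hinj⟩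
  have h3 : τ ^ finrank F W = 1 := by
    rw [← h.finrank_cent, ← IsGalois.card_aut_eq_finrank]
    exact pow_card_eq_one'
  have h4 : ∀ (k : ℕ) (a : Subalgebra.centralizer F {γ}),
      ((τ ^ k) a : End F W) * ν ^ k = ν ^ k * a := by
    intro k
    induction k with
    | zero => intro a; simp
    | succ k ih =>
      intro a
      rw [pow_succ', AlgEquiv.mul_apply]
      change ν * ((τ ^ k) a : End F W) * ν' * ν ^ (k + 1) = _
      rw [pow_succ', mul_assoc, ← mul_assoc ν', h2, one_mul, mul_assoc, ih, mul_assoc]
  have h5 := h4 (finrank F W) ⟨γ, mem_cent.mpr (Commute.refl γ)⟩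
  rw [h3] at h5
  exact h5.symm

end Irr

end Cfsg.Agent.R3
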