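import Cfsg.Agent.R3.Irr

/-! Elements of primitive prime divisor order fixing a subspace pointwise; the Frattini argument. -/

set_option autoImplicit false

namespace Cfsg.Agent.R3

open Module Polynomial

variable {F V H : Type*} [Field F] [Fintype F] [AddCommGroup V] [Module F V] [Finite V]
  [Group H] [Finite H] {ρ : Representation F H V}

omit [Fintype F] [Finite V] [Finite H] in
theorem rho_mul (a b : H) (v : V) : ρ (a * b) v = ρ a (ρ b v) := by rw [map_mul]; rfl

omit [Fintype F] [Finite V] [Finite H] in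
theorem rho_inv (a : H) (v : V) : ρ a⁻¹ (ρ a v) = v := by rw [← rho_mul]; simp

omit [Fintype F] [Finite V] [Finite H] in
theorem rho_inv' (a : H) (v : V) : ρ a (ρ a⁻¹ v) = v := by rw [← rho_mul]; simp

omit [Fintype F] [Finite V] [Finite H] in
theorem rho_inj (a : H) : Function.Injective (ρ a) :=
  Function.LeftInverse.injective (rho_inv (ρ := ρ) a)

omit [Fintype F] [Finite V] [Finite H] in
theorem rho_pow_mem {a : H} {U : Submodule F V} (h : ∀ w ∈ U, ρ a w ∈ U) (k : ℕ) :
    ∀ w ∈ U, ρ (a ^ k) w ∈ U := by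
  induction k with
  | zero => intro w hw; simpa using hw
  | succ k ih => intro w hw; rw [pow_succ', rho_mul]; exact h _ (ih w hw)

omit [Fintype F] [Finite V] in
theorem rho_inv_mem {a : H} {U : Submodule F V} (h : ∀ w ∈ U, ρ a w ∈ U) :
    ∀ w ∈ U, ρ a⁻¹ w ∈ U := by
  have : a⁻¹ = a ^ (orderOf a - 1) := by
    apply inv_eq_of_mul_eq_one_right
    rw [← pow_succ', Nat.sub_add_cancel (orderOf_pos a), pow_orderOf_eq_one]
  rw [this]; exact rho_pow_mem h _

omit [Fintype F] [Finite V] [Finite H] in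
theorem rho_pow_fix {a : H} {w : V} (h : ρ a w = w) (k : ℕ) : ρ (a ^ k) w = w := by
  induction k with
  | zero => simp
  | succ k ih => rw [pow_succ', rho_mul, ih, h]

omit [Fintype F] [Finite V] [Finite H] in
theorem rho_inv_fix {a : H} {w : V} (h : ρ a w = w) : ρ a⁻¹ w = w := by
  conv_lhs => rw [← h]
  exact rho_inv a w

omit [Finite H] in
theorem fpf_dvd {r : ℕ} (hr : r.Prime) {g : H} (hg : g ^ r = 1) (U : Submodule F V)
    (hU : ∀ w ∈ U, ρ g w ∈ U) (hf : ∀ w ∈ U, ρ g w = w → w = 0) :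
    orderOf (Fintype.card F : ZMod r) ∣ finrank F U := by
  classical
  have : Fact r.Prime := ⟨hr⟩
  have := Fintype.ofFinite U
  let f : Function.End U := fun y => ⟨ρ g y, hU _ y.2⟩
  have hp : ∀ (n : ℕ) (y : U), ((f ^ n) y : V) = ρ (g ^ n) y := by
    intro n
    induction n with
    | zero => intro y; simp; rfl
    | succ n ih =>
      intro y
      rw [pow_succ']
      change ρ g ((f ^ n) y : V) = _
      rw [ih, pow_succ', rho_mul]
  have hf' : f ^ r ^ 1 = 1 := by
    funext y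
    apply Subtype.ext
    rw [pow_one, hp, hg]; simp; rfl
  have h := Equiv.Perm.card_fixedPoints_modEq hf'
  have h1 : Fintype.card f.fixedPoints = 1 := by
    rw [Fintype.card_eq_one_iff]
    refine ⟨⟨0, Subtype.ext (by simp [f])⟩, fun y => Subtype.ext (Subtype.ext ?_)⟩
    exact hf _ y.1.2 (congrArg Subtype.val y.2)
  rw [h1, Module.card_eq_pow_finrank (K := F)] at h
  rw [orderOf_dvd_iff_pow_eq_one]
  have := (ZMod.natCast_eq_natCast_iff _ _ _).mpr h
  simpa using this

/-- `g` fixes `L` pointwise and is irreducible on the complement `W` -/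
structure PP (ρ : Representation F H V) (g : H) (L W : Submodule F V) (m : ℕ) : Prop where
  fix : ∀ v ∈ L, ρ g v = v
  compl : IsCompl L W
  rng : ∀ v, ρ g v - v ∈ W
  rng' : ∀ w ∈ W, ∃ v, ρ g v - v = w
  irr : ∀ U ≤ W, (∀ w ∈ U, ρ g w ∈ U) → U = ⊥ ∨ U = W
  rk : finrank F W = m
  ker : ∀ v, ρ g v = v → v ∈ L

omit [Finite H] in
theorem cast_ne_zero {r m : ℕ} (hr : r.Prime) (hm : orderOf (Fintype.card F : ZMod r) = m)
    (hm0 : 0 < m) : (r : F) ≠ 0 := by
  intro h
  have : Fact r.Prime := ⟨hr⟩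
  have h1 : ringChar F = r := CharP.ringChar_of_prime_eq_zero hr h
  have h2 : (Fintype.card F : F) = 0 := FiniteField.cast_card_eq_zero F
  rw [ringChar.spec, h1, ← ZMod.natCast_eq_zero_iff] at h2
  have h3 := pow_orderOf_eq_one (Fintype.card F : ZMod r)
  rw [hm, h2, zero_pow hm0.ne'] at h3
  exact zero_ne_one h3

omit [Finite H] in
theorem compl_ker_range {r : ℕ} (hr0 : (r : F) ≠ 0) {g : H} (hg : g ^ r = 1) :
    IsCompl (LinearMap.ker (ρ g - 1)) (LinearMap.range (ρ g - 1)) := by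
  have hd : Disjoint (LinearMap.ker (ρ g - 1)) (LinearMap.range (ρ g - 1)) := by
    rw [Submodule.disjoint_def]
    rintro v hv ⟨u, hu⟩
    have h1 : ρ g v = v := by simpa [sub_eq_zero] using hv
    have h2 : ρ g u = u + v := by rw [← hu]; simp
    have h3 : ∀ k : ℕ, ρ (g ^ k) u = u + (k : F) • v := by
      intro k
      induction k with
      | zero => simp
      | succ k ih => rw [pow_succ', rho_mul, ih, map_add, map_smul, h1, h2]; push_cast; module
    have h4 := h3 r
    rw [hg] at h4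
    simpa [hr0] using h4
  refine ⟨hd, ?_⟩
  rw [codisjoint_iff]
  apply Submodule.eq_top_of_disjoint _ _ _ hd
  rw [add_comm, LinearMap.finrank_range_add_finrank_ker]

omit [Finite H] in
theorem dvd_range {r : ℕ} (hr : r.Prime) (hr0 : (r : F) ≠ 0) {g : H} (hg : g ^ r = 1)
    (U : Submodule F V) (hU : U ≤ LinearMap.range (ρ g - 1)) (hU' : ∀ w ∈ U, ρ g w ∈ U) :
    orderOf (Fintype.card F : ZMod r) ∣ finrank F U :=
  fpf_dvd hr hg U hU' (fun w hw h => Submodule.disjoint_def.mp (compl_ker_range hr0 hg).disjoint w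
    (by simp [h]) (hU hw))

omit [Fintype F] [Finite V] [Finite H] in
theorem range_inv (g : H) : ∀ w ∈ LinearMap.range (ρ g - 1), ρ g w ∈ LinearMap.range (ρ g - 1) := by
  rintro _ ⟨v, rfl⟩
  exact ⟨ρ g v, by simp⟩

omit [Finite H] in
theorem exists_PP {r m : ℕ} (hr : r.Prime) (hm : orderOf (Fintype.card F : ZMod r) = m)
    (hm0 : 0 < m) {g : H} (hg : g ^ r = 1) (hg1 : ρ g ≠ 1) {L : Submodule F V}
    (hL : ∀ v ∈ L, ρ g v = v) (hrk : finrank F V = finrank F L + m) :
    ∃ W, PP ρ g L W m := by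
  have hr0 := cast_ne_zero hr hm hm0
  have hc := compl_ker_range (ρ := ρ) hr0 hg
  have h1 := dvd_range hr hr0 hg _ le_rfl (range_inv (ρ := ρ) g)
  rw [hm] at h1
  have h2 : 0 < finrank F (LinearMap.range (ρ g - 1)) := by
    rw [Nat.pos_iff_ne_zero, Ne, Submodule.finrank_eq_zero, LinearMap.range_eq_bot, sub_eq_zero]
    exact hg1
  have h3 := Nat.le_of_dvd h2 h1
  have h4 := LinearMap.finrank_range_add_finrank_ker (ρ g - 1)
  have h5 : L ≤ LinearMap.ker (ρ g - 1) := fun v hv => by simp [hL v hv]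
  have h6 := Submodule.finrank_mono h5
  have h7 : L = LinearMap.ker (ρ g - 1) := Submodule.eq_of_le_of_finrank_le h5 (by omega)
  have h8 : finrank F (LinearMap.range (ρ g - 1)) = m := by omega
  refine ⟨LinearMap.range (ρ g - 1), hL, h7 ▸ hc, fun v => ⟨v, by simp⟩, ?_, ?_, h8, ?_⟩
  · rintro _ ⟨v, rfl⟩
    exact ⟨v, by simp⟩
  · intro U hU hU'
    have h9 := dvd_range hr hr0 hg U hU hU'
    rw [hm] at h9
    rcases Nat.eq_zero_or_pos (finrank F U) with h | h
    · exact Or.inl (Submodule.finrank_eq_zero.mp h)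
    · exact Or.inr (Submodule.eq_of_le_of_finrank_le hU (h8 ▸ Nat.le_of_dvd h h9))
  · intro v hv
    rw [h7]; simp [hv]

omit [Finite H] in
/-- an element of order `r` fixes a subspace of codimension `m` when `dim V < 2 m` -/
theorem exists_fix {r m : ℕ} (hr : r.Prime) (hm : orderOf (Fintype.card F : ZMod r) = m)
    (hm0 : 0 < m) {g : H} (hg : g ^ r = 1) (hg1 : ρ g ≠ 1) (hrk : finrank F V < 2 * m) :
    ∃ L : Submodule F V, (∀ v ∈ L, ρ g v = v) ∧ finrank F V = finrank F L + m := by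
  have hr0 := cast_ne_zero hr hm hm0
  have h1 := dvd_range hr hr0 hg _ le_rfl (range_inv (ρ := ρ) g)
  rw [hm] at h1
  have h2 : 0 < finrank F (LinearMap.range (ρ g - 1)) := by
    rw [Nat.pos_iff_ne_zero, Ne, Submodule.finrank_eq_zero, LinearMap.range_eq_bot, sub_eq_zero]
    exact hg1
  have h4 := LinearMap.finrank_range_add_finrank_ker (ρ g - 1)
  obtain ⟨k, hk⟩ := h1
  have : k = 1 := by
    rcases k with _ | _ | k
    · omega
    · rfl
    · nlinarith
  refine ⟨LinearMap.ker (ρ g - 1), fun v hv => by simpa [sub_eq_zero] using hv, ?_⟩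
  rw [this] at hk; omega

namespace PP

variable {g : H} {L W : Submodule F V} {m : ℕ} (P : PP ρ g L W m)
include P

omit [Fintype F] [Finite V] [Finite H] in
theorem memW {a : H} (ha : Commute a g) : ∀ w ∈ W, ρ a w ∈ W := by
  intro w hw
  obtain ⟨v, rfl⟩ := P.rng' w hw
  rw [map_sub, ← rho_mul, ha.eq, rho_mul]
  exact P.rng _

omit [Fintype F] [Finite V] [Finite H] in
theorem pow_sub (k : ℕ) (v : V) : ρ (g ^ k) v - v ∈ W := by
  induction k with
  | zero => simp
  | succ k ih =>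
    have : ρ (g ^ (k + 1)) v - v = (ρ g (ρ (g ^ k) v) - ρ (g ^ k) v) + (ρ (g ^ k) v - v) := by
      rw [pow_succ', rho_mul]; abel
    rw [this]; exact W.add_mem (P.rng _) ih

omit [Fintype F] [Finite V] in
theorem normW {a : H} (ha : a ∈ Subgroup.normalizer (Subgroup.zpowers g : Set H)) :
    ∀ w ∈ W, ρ a w ∈ W := by
  intro w hw
  obtain ⟨v, rfl⟩ := P.rng' w hw
  obtain ⟨k, hk⟩ := mem_powers_iff_mem_zpowers.mpr
    ((Subgroup.mem_normalizer_iff.mp ha g).mp (Subgroup.mem_zpowers g))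
  have : ρ a (ρ g v) = ρ (g ^ k) (ρ a v) := by
    rw [← rho_mul, ← rho_mul]; simp only at hk; rw [hk]; simp
  rw [map_sub, this]
  exact P.pow_sub _ _

omit [Fintype F] [Finite V] in
theorem normL {a : H} (ha : a ∈ Subgroup.normalizer (Subgroup.zpowers g : Set H)) :
    ∀ v ∈ L, ρ a v ∈ L := by
  intro v hv
  apply P.ker
  obtain ⟨k, hk⟩ := mem_powers_iff_mem_zpowers.mpr
    ((Subgroup.mem_normalizer_iff.mp (Subgroup.inv_mem _ ha) g).mp (Subgroup.mem_zpowers g))
  have : g * a = a * g ^ k := by simp only at hk; rw [hk]; group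
  rw [← rho_mul, this, rho_mul, rho_pow_fix (P.fix v hv)]

omit [Fintype F] [Finite V] [Finite H] in
theorem ext {α β : End F V} (h1 : ∀ v ∈ L, α v = β v) (h2 : ∀ w ∈ W, α w = β w) : α = β := by
  ext v
  obtain ⟨l, hl, w, hw, rfl⟩ := Submodule.mem_sup.mp
    (show v ∈ L ⊔ W by rw [P.compl.sup_eq_top]; trivial)
  rw [map_add, map_add, h1 l hl, h2 w hw]

omit [Fintype F] [Finite V] [Finite H] in
theorem irr' : Irr ((ρ g).restrict (P.memW (Commute.refl g))) := by
  intro U hU
  rcases P.irr (U.map W.subtype) (Submodule.map_subtype_le _ _) (by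
    rintro _ ⟨w, hw, rfl⟩
    exact ⟨_, hU w hw, rfl⟩) with h | h
  · left
    apply Submodule.map_injective_of_injective W.injective_subtype
    rw [h, Submodule.map_bot]
  · right
    apply Submodule.map_injective_of_injective W.injective_subtype
    rw [h, Submodule.map_top, Submodule.range_subtype]

omit [Fintype F] [Finite V] [Finite H] in
theorem res_comm {a : H} (ha : Commute a g) :
    Commute ((ρ a).restrict (P.memW ha)) ((ρ g).restrict (P.memW (Commute.refl g))) := by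
  ext w
  change ρ a (ρ g w) = ρ g (ρ a w)
  rw [← rho_mul, ha.eq, rho_mul]

omit [Fintype F] [Finite V] [Finite H] P in
theorem res_pow {a : H} (ha : ∀ w ∈ W, ρ a w ∈ W) (k : ℕ) (w : W) :
    ((((ρ a).restrict ha) ^ k) w : V) = ρ (a ^ k) w := by
  induction k with
  | zero => simp
  | succ k ih =>
    rw [pow_succ', End.mul_apply, pow_succ', rho_mul, ← ih]; rfl

omit [Fintype F] [Finite V] [Finite H] in
theorem C1 {a b : H} (ha : Commute a g) (hb : Commute b g) {w : V} (hw : w ∈ W) :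
    ρ a (ρ b w) = ρ b (ρ a w) :=
  congrArg (fun f : End F W => (f ⟨w, hw⟩ : V)) (P.irr'.comm (P.res_comm ha) (P.res_comm hb)).eq

omit [Finite H] in
theorem C2 {a : H} (ha : Commute a g) {w : V} (hw : w ∈ W) :
    ρ (a ^ (Fintype.card F ^ m - 1)) w = w := by
  by_cases h0 : (ρ a).restrict (P.memW ha) = 0
  · have : ρ a w = 0 := congrArg (fun f : End F W => (f ⟨w, hw⟩ : V)) h0
    have : w = 0 := rho_inj a (by rw [this, map_zero])
    rw [this, map_zero]
  · have h := P.irr'.pow_eq_one (P.res_comm ha) h0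
    rw [P.rk] at h
    have := res_pow (P.memW ha) (Fintype.card F ^ m - 1) ⟨w, hw⟩
    rw [h] at this
    exact this.symm

omit [Fintype F] [Finite V] [Finite H] in
theorem C3 {a : H} (ha : Commute a g) : ∃ Q : F[X], ∀ w ∈ W, ρ a w = aeval (ρ g) Q w := by
  obtain ⟨Q, hQ⟩ := P.irr'.poly (P.res_comm ha)
  refine ⟨Q, fun w hw => ?_⟩
  have h1 : ρ a w = (aeval ((ρ g).restrict (P.memW (Commute.refl g))) Q ⟨w, hw⟩ : V) :=
    congrArg (fun f : End F W => (f ⟨w, hw⟩ : V)) hQ
  rw [h1]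
  clear hQ h1
  induction Q using Polynomial.induction_on' with
  | add p q hp hq => simp [hp, hq]
  | monomial n c =>
    simp only [aeval_monomial, End.mul_apply, Module.algebraMap_end_apply, Submodule.coe_smul]
    rw [res_pow, map_pow]

theorem C4 (hinj : Function.Injective ρ) {a : H}
    (ha : a ∈ Subgroup.normalizer (Subgroup.zpowers g : Set H)) : Commute (a ^ m) g := by
  have ha' := Subgroup.inv_mem _ ha
  have h := P.irr'.norm_pow (ν := (ρ a).restrict (P.normW ha))
    (ν' := (ρ a⁻¹).restrict (P.normW ha')) (by ext w; exact rho_inv' a _)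
    (by ext w; exact rho_inv a _) (by
      intro α hα
      obtain ⟨k, hk⟩ := mem_powers_iff_mem_zpowers.mpr
        ((Subgroup.mem_normalizer_iff.mp ha' g).mp (Subgroup.mem_zpowers g))
      simp only [inv_inv] at hk
      have e1 : ((ρ g).restrict (P.memW (Commute.refl g))) * (ρ a).restrict (P.normW ha) =
          (ρ a).restrict (P.normW ha) * ((ρ g).restrict (P.memW (Commute.refl g))) ^ k := by
        ext w
        change ρ g (ρ a w) = ρ a ((((ρ g).restrict (P.memW (Commute.refl g))) ^ k) w : V)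
        rw [res_pow, hk, ← rho_mul, ← rho_mul]; congr 2; group
      have e2 : (ρ a⁻¹).restrict (P.normW ha') * ((ρ g).restrict (P.memW (Commute.refl g))) =
          ((ρ g).restrict (P.memW (Commute.refl g))) ^ k * (ρ a⁻¹).restrict (P.normW ha') := by
        ext w
        change ρ a⁻¹ (ρ g w) = ((((ρ g).restrict (P.memW (Commute.refl g))) ^ k)
          ((ρ a⁻¹).restrict (P.normW ha') w) : V)
        rw [res_pow, hk]
        change _ = ρ (a⁻¹ * g * a) (ρ a⁻¹ w)
        rw [← rho_mul, ← rho_mul]; congr 2; group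
      change _ * _ = _ * _
      rw [mul_assoc, e2, ← mul_assoc, mul_assoc _ α, (hα.pow_right k).eq, ← mul_assoc, ← e1]
      simp only [mul_assoc])
  rw [P.rk] at h
  apply hinj
  apply P.ext
  · intro v hv
    rw [rho_mul, rho_mul, P.fix v hv, P.fix _ (rho_pow_mem (P.normL ha) m v hv)]
  · intro w hw
    have := congrArg (fun f : End F W => (f ⟨w, hw⟩ : V)) h.eq
    simp only [End.mul_apply] at this
    rw [res_pow] at this
    rw [rho_mul, rho_mul]
    refine this.trans ?_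
    exact congrArg (ρ g) (res_pow (P.normW ha) m ⟨w, hw⟩)

omit [Fintype F] [Finite H] in
theorem C5 (hinj : Function.Injective ρ) {r : ℕ} (hr : r.Prime) {a b : H} (ha : Commute a g)
    (hb : Commute b g) (ha1 : a ^ r = 1) (hb1 : b ^ r = 1) (ha2 : ∀ v ∈ L, ρ a v = v)
    (hb2 : ∀ v ∈ L, ρ b v = v) (h0 : a ≠ 1) : ∃ i : ℕ, b = a ^ i := by
  obtain ⟨i, hi⟩ := P.irr'.mem_powers (P.res_comm ha) (P.res_comm hb) hr
    (by ext w; rw [res_pow, ha1]; simp) (by ext w; rw [res_pow, hb1]; simp) (by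
      intro h
      apply h0
      apply hinj
      apply P.ext
      · intro v hv; rw [ha2 v hv]; simp
      · intro w hw
        have := congrArg (fun f : End F W => (f ⟨w, hw⟩ : V)) h
        simpa using this)
  refine ⟨i, hinj (P.ext ?_ ?_)⟩
  · intro v hv; rw [hb2 v hv, rho_pow_fix (ha2 v hv)]
  · intro w hw
    have := congrArg (fun f : End F W => (f ⟨w, hw⟩ : V)) hi
    exact this.trans (res_pow (P.memW ha) i ⟨w, hw⟩)

end PP

/-- pointwise stabiliser -/
def ptw (ρ : Representation F H V) (L : Submodule F V) : Subgroup H where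
  carrier := {a | ∀ v ∈ L, ρ a v = v}
  mul_mem' := fun {a b} ha hb v hv => by rw [rho_mul, hb v hv, ha v hv]
  one_mem' := fun v _ => by simp
  inv_mem' := fun {a} ha v hv => rho_inv_fix (ha v hv)

/-- The Frattini argument. -/
theorem frattini (hinj : Function.Injective ρ) {r m : ℕ} (hr : r.Prime)
    (hm : orderOf (Fintype.card F : ZMod r) = m) (hm0 : 0 < m) {g : H} (hg : orderOf g = r)
    {L : Submodule F V} (hL : ∀ v ∈ L, ρ g v = v) (hrk : finrank F V = finrank F L + m)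
    {h : H} (hh : ∀ v ∈ L, ρ h v ∈ L) :
    ∃ n ∈ Subgroup.normalizer (Subgroup.zpowers g : Set H), ∀ v ∈ L, ρ n v = ρ h v := by
  have : Fact r.Prime := ⟨hr⟩
  let K := ptw ρ L
  let g1 : K := ⟨g, hL⟩
  let g2 : K := ⟨h * g * h⁻¹, fun v hv => by
    rw [rho_mul, rho_mul, hL _ (rho_inv_mem hh v hv), rho_inv']⟩
  have o1 : orderOf g1 = r := by rw [← Subgroup.orderOf_coe]; exact hg
  have o2 : orderOf g2 = r := by
    rw [← Subgroup.orderOf_coe, ← hg]; exact (MulAut.conj h).orderOf_eq g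
  have pg : ∀ x : K, orderOf x = r → IsPGroup r (Subgroup.zpowers x) := fun x hx =>
    IsPGroup.of_card (n := 1) (by rw [Nat.card_zpowers, hx, pow_one])
  obtain ⟨R, hR⟩ := (pg g1 o1).exists_le_sylow
  obtain ⟨R', hR'⟩ := (pg g2 o2).exists_le_sylow
  obtain ⟨k, hk⟩ := MulAction.exists_smul_eq K R' R
  have m1 : g1 ∈ (R : Subgroup K) := hR (Subgroup.mem_zpowers g1)
  have m2 : k * g2 * k⁻¹ ∈ (R : Subgroup K) := by
    rw [← hk, Sylow.coe_subgroup_smul, Subgroup.mem_pointwise_smul_iff_inv_smul_mem]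
    have : (MulAut.conj k)⁻¹ • (k * g2 * k⁻¹) = g2 := by simp [mul_assoc]
    rw [this]; exact hR' (Subgroup.mem_zpowers g2)
  have g11 : g1 ≠ 1 := by
    intro h; rw [h, orderOf_one] at o1; exact hr.ne_one o1.symm
  have : Nontrivial R := ⟨⟨g1, m1⟩, 1, fun h => g11 (congrArg Subtype.val h)⟩
  have := R.isPGroup'.center_nontrivial
  obtain ⟨z, hz⟩ := exists_prime_orderOf_dvd_card' (G := Subgroup.center R) r (by
    obtain ⟨k, hk, h⟩ := (R.isPGroup'.to_subgroup (Subgroup.center R)).nontrivial_iff_card.mp this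
    rw [h]; exact dvd_pow_self r hk.ne')
  have hz' : orderOf (((z : R) : K) : H) = r := by
    rw [Subgroup.orderOf_coe, Subgroup.orderOf_coe, Subgroup.orderOf_coe, hz]
  obtain ⟨W, P⟩ := exists_PP (ρ := ρ) hr hm hm0 (g := (((z : R) : K) : H))
    (orderOf_dvd_iff_pow_eq_one.mp (by rw [hz'])) (by
      intro h
      have : (((z : R) : K) : H) = 1 := hinj (by rw [h, map_one])
      rw [this, orderOf_one] at hz'; exact hr.ne_one hz'.symm) ((z : R) : K).2 hrk
  have hc : ∀ x : K, x ∈ (R : Subgroup K) → Commute (x : H) (((z : R) : K) : H) := fun x hx =>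
    congrArg (fun y : R => ((y : K) : H)) (Subgroup.mem_center_iff.mp z.2 ⟨x, hx⟩)
  obtain ⟨i, hi⟩ := P.C5 hinj hr (hc _ m1) (hc _ m2) (by rw [← hg]; exact pow_orderOf_eq_one _)
    (by
      have : orderOf ((k * g2 * k⁻¹ : K) : H) = r := by
        rw [Subgroup.orderOf_coe, ← o2]; exact (MulAut.conj k).orderOf_eq g2
      rw [← this]; exact pow_orderOf_eq_one _) hL (k * g2 * k⁻¹).2
    (fun h => g11 (Subtype.ext h))
  refine ⟨k * h, ?_, fun v hv => by rw [rho_mul, k.2 _ (hh v hv)]⟩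
  have hi' : (k * h) * g * (k * h)⁻¹ = g ^ i := by
    rw [← show ((k * g2 * k⁻¹ : K) : H) = g ^ i from hi]
    change _ = (k : H) * (h * g * h⁻¹) * (k : H)⁻¹
    group
  apply Subgroup.mem_normalizer_fintype
  rintro _ ⟨j, rfl⟩
  simp only
  rw [← conj_zpow, hi']
  exact Subgroup.zpow_mem _ (Subgroup.pow_mem _ (Subgroup.mem_zpowers g) _) _

theorem exists_exp {p a : ℕ} (hp : p.Prime) (ha : ¬ p ∣ a) : ∃ b c, a * b = p * c + 1 := by
  obtain ⟨b, -, hb⟩ := Nat.exists_mul_mod_eq_one_of_coprime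
    ((Nat.Prime.coprime_iff_not_dvd hp).mpr ha).symm hp.one_lt
  exact ⟨b, a * b / p, by have := Nat.div_add_mod (a * b) p; omega⟩

omit [Finite H] in
theorem not_dvd_card_pow {p : ℕ} (hp : p.Prime) [CharP F p] {m : ℕ} (hm : 0 < m) :
    ¬ p ∣ Fintype.card F ^ m - 1 := by
  intro h
  have h1 : p ∣ Fintype.card F := (CharP.cast_eq_zero_iff F p _).mp (FiniteField.cast_card_eq_zero F)
  have h2 : p ∣ Fintype.card F ^ m := h1.trans (dvd_pow_self _ hm.ne')
  have h3 : 1 ≤ Fintype.card F ^ m := Nat.one_le_pow _ _ Fintype.card_pos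
  have := (Nat.dvd_sub_iff_right h3 h2).mp h
  exact hp.ne_one (Nat.dvd_one.mp this)

omit [Fintype F] [Finite V] [Finite H] in
theorem pow_agree {a h : H} {L : Submodule F V} (hh : ∀ v ∈ L, ρ h v ∈ L)
    (h1 : ∀ v ∈ L, ρ a v = ρ h v) (k : ℕ) : ∀ v ∈ L, ρ (a ^ k) v = ρ (h ^ k) v := by
  induction k with
  | zero => simp
  | succ k ih =>
    intro v hv
    rw [pow_succ', pow_succ', rho_mul, rho_mul, ih v hv, h1 _ (rho_pow_mem hh k v hv)]

namespace PP

variable {g : H} {L W : Submodule F V} {m : ℕ} (P : PP ρ g L W m)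
include P

omit [Finite H] in
/-- an element commuting with `g` and of order `p` on `L` has a power trivial on `W` -/
theorem cut {p : ℕ} (hp : p.Prime) [CharP F p] (hm0 : 0 < m) {a : H} (hc : Commute a g)
    (hp' : ∀ v ∈ L, ρ (a ^ p) v = v) (hL : ∀ v ∈ L, ρ a v ∈ L) :
    ∃ u : H, (∀ v ∈ L, ρ u v = ρ a v) ∧ ∀ w ∈ W, ρ u w = w := by
  obtain ⟨b, c, h⟩ := exists_exp hp (not_dvd_card_pow (F := F) hp hm0)
  refine ⟨a ^ ((Fintype.card F ^ m - 1) * b), fun v hv => ?_, fun w hw => ?_⟩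
  · rw [h, pow_succ, rho_mul, pow_mul, rho_pow_fix (hp' _ (hL v hv))]
  · rw [pow_mul, rho_pow_fix (P.C2 hc hw)]

theorem cut' (hinj : Function.Injective ρ) {p : ℕ} (hp : p.Prime) [CharP F p] (hm0 : 0 < m)
    (hpm : ¬ p ∣ m) {a : H} (ha : a ∈ Subgroup.normalizer (Subgroup.zpowers g : Set H))
    (hp' : ∀ v ∈ L, ρ (a ^ p) v = v) :
    ∃ u : H, (∀ v ∈ L, ρ u v = ρ a v) ∧ ∀ w ∈ W, ρ u w = w := by
  obtain ⟨b, c, h⟩ := exists_exp hp hpm
  obtain ⟨u, h1, h2⟩ := P.cut hp hm0 (a := a ^ (m * b))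
    (by rw [pow_mul]; exact (P.C4 hinj ha).pow_left b)
    (fun v hv => by rw [← pow_mul, mul_comm, pow_mul, rho_pow_fix (hp' v hv)])
    (rho_pow_mem (P.normL ha) _)
  refine ⟨u, fun v hv => ?_, h2⟩
  rw [h1 v hv, h, pow_succ, rho_mul, pow_mul, rho_pow_fix (hp' _ (P.normL ha v hv))]

end PP

omit [Fintype F] [Finite V] in
theorem comm_of_norm {g a b : H} (ha : a ∈ Subgroup.normalizer (Subgroup.zpowers g : Set H))
    (hb : b ∈ Subgroup.normalizer (Subgroup.zpowers g : Set H)) :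
    Commute (a * b * a⁻¹ * b⁻¹) g := by
  obtain ⟨i, hi⟩ := (Subgroup.mem_normalizer_iff.mp ha g).mp (Subgroup.mem_zpowers g)
  obtain ⟨j, hj⟩ := (Subgroup.mem_normalizer_iff.mp hb g).mp (Subgroup.mem_zpowers g)
  simp only at hi hj
  have h1 : a * b * g * (a * b)⁻¹ = b * a * g * (b * a)⁻¹ := by
    calc a * b * g * (a * b)⁻¹ = a * (b * g * b⁻¹) * a⁻¹ := by group
      _ = (g ^ i) ^ j := by rw [← hj, ← conj_zpow, ← hi]
      _ = (g ^ j) ^ i := by rw [← zpow_mul, ← zpow_mul, mul_comm]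
      _ = b * (a * g * a⁻¹) * b⁻¹ := by rw [← hi, ← conj_zpow, ← hj]
      _ = _ := by group
  obtain ⟨k, hk⟩ := (Subgroup.mem_normalizer_iff.mp (Subgroup.inv_mem _ (Subgroup.mul_mem _ hb ha))
    g).mp (Subgroup.mem_zpowers g)
  simp only [inv_inv] at hk
  have h2 : a * b * g ^ k * (a * b)⁻¹ = b * a * g ^ k * (b * a)⁻¹ := by
    rw [← conj_zpow, ← conj_zpow, h1]
  have h3 : a * b * g ^ k * (a * b)⁻¹ = g := by rw [h2, hk]; group
  change _ * _ = _ * _
  calc a * b * a⁻¹ * b⁻¹ * g = a * b * ((b * a)⁻¹ * g * (b * a)) * (a * b)⁻¹ * (a * b * a⁻¹ * b⁻¹) := by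
        group
    _ = g * (a * b * a⁻¹ * b⁻¹) := by rw [← hk, h3]

end Cfsg.Agent.R3
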