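import Cfsg.Agent.R3.Tv

/-! The `p'`-case: a correlation without absolute points. -/

set_option autoImplicit false

namespace Cfsg.Agent.R3

open Module

variable {F V H : Type*} [Field F] [Fintype F] [AddCommGroup V] [Module F V] [Finite V]
  [Group H] [Finite H] {ρ : Representation F H V}

omit [Fintype F] [Finite V] in
theorem maschke_pt (hH : (Nat.card H : F) ≠ 0) {x : V} (hx : x ≠ 0) :
    ∃ φ : V →ₗ[F] F, φ x = 1 ∧ ∀ (h : H) (c : F), ρ h x = c • x → ∀ v, φ (ρ h v) = c * φ v := by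
  classical
  obtain ⟨ψ, hψ, -⟩ := exists_fun (S := (⊥ : Submodule F V)) (v := x) (by simpa using hx)
  let S : Subgroup H :=
    { carrier := {h | ρ h x = ψ (ρ h x) • x}
      mul_mem' := fun {a b} ha hb => by
        have ha' : ρ a x = ψ (ρ a x) • x := ha
        have hb' : ρ b x = ψ (ρ b x) • x := hb
        change ρ (a * b) x = ψ (ρ (a * b) x) • x
        rw [rho_mul, hb', map_smul, ha']
        simp [hψ, smul_smul]
      one_mem' := by simp [hψ]
      inv_mem' := fun {a} ha => by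
        have ha' : ρ a x = ψ (ρ a x) • x := ha
        have h0 : ψ (ρ a x) ≠ 0 := fun h => hx (rho_inj (ρ := ρ) a (by rw [ha', h]; simp))
        have : ρ a⁻¹ x = (ψ (ρ a x))⁻¹ • x := rho_inj (ρ := ρ) a (by
          rw [rho_inv', map_smul, ha']; simp [hψ, smul_smul, h0])
        change ρ a⁻¹ x = ψ (ρ a⁻¹ x) • x
        rw [this]; simp [hψ] }
  have := Fintype.ofFinite S
  have hS : (Fintype.card S : F) ≠ 0 := by
    intro h
    apply hH
    rw [← S.card_mul_index, Nat.card_eq_fintype_card, Nat.cast_mul, h, zero_mul]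
  have h0 : ∀ a : S, ψ (ρ a x) ≠ 0 := fun a h =>
    hx (rho_inj (ρ := ρ) a (by rw [show ρ a x = ψ (ρ a x) • x from a.2, h]; simp))
  refine ⟨(Fintype.card S : F)⁻¹ • ∑ a : S, (ψ (ρ a x))⁻¹ • ψ.comp (ρ a), ?_, ?_⟩
  · simp only [LinearMap.smul_apply, LinearMap.sum_apply, LinearMap.comp_apply, smul_eq_mul]
    rw [Finset.sum_congr rfl (fun a _ => inv_mul_cancel₀ (h0 a))]
    simp [hS]
  · intro h c hc v
    have hh : h ∈ S := by
      change ρ h x = ψ (ρ h x) • x
      rw [hc]; simp [hψ]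
    simp only [LinearMap.smul_apply, LinearMap.sum_apply, LinearMap.comp_apply, smul_eq_mul]
    rw [mul_left_comm, Finset.mul_sum _ _ c]
    congr 1
    refine Fintype.sum_equiv (Equiv.mulRight (⟨h, hh⟩ : S)) _ _ fun a => ?_
    have hc0 : c ≠ 0 := by
      rintro rfl
      exact hx (rho_inj (ρ := ρ) h (by rw [hc]; simp))
    simp only [Equiv.coe_mulRight, Subgroup.coe_mul, rho_mul, hc, map_smul, smul_eq_mul]
    field_simp [h0 a]

omit [Fintype F] [Finite V] [Finite H] in
theorem pt_trans (h1 : Tr1 ρ 1) {x y : V} (hx : x ≠ 0) (hy : y ≠ 0) :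
    ∃ (h : H) (c : F), c ≠ 0 ∧ ρ h x = c • y := by
  obtain ⟨h, e⟩ := h1 _ _ (finrank_span_singleton (K := F) hx) (finrank_span_singleton (K := F) hy)
  obtain ⟨a, ha⟩ := Submodule.mem_span_singleton.mp
    (show ρ h x ∈ Submodule.span F {y} from e ▸ ⟨x, Submodule.mem_span_singleton_self x, rfl⟩)
  refine ⟨h, a, ?_, ha.symm⟩
  rintro rfl
  exact hx (rho_inj (ρ := ρ) h (by rw [← ha]; simp))

omit [Fintype F] [Finite H] in
theorem hyp_trans (h1 : Tr1 ρ (finrank F V - 1)) {φ ψ : V →ₗ[F] F} (hφ : φ ≠ 0) (hψ : ψ ≠ 0) :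
    ∃ (h : H) (c : F), c ≠ 0 ∧ φ.comp (ρ h⁻¹) = c • ψ := by
  obtain ⟨h, e2⟩ := h1 (LinearMap.ker φ) (LinearMap.ker ψ)
    (by have := Module.Dual.finrank_ker_add_one_of_ne_zero hφ; omega)
    (by have := Module.Dual.finrank_ker_add_one_of_ne_zero hψ; omega)
  obtain ⟨b, hb⟩ := prop_of_ker (φ := φ.comp (ρ h⁻¹)) hψ (fun v hv => by
    obtain ⟨w, hw, rfl⟩ : v ∈ (LinearMap.ker φ).map (ρ h) := e2 ▸ hv
    simp only [LinearMap.comp_apply, rho_inv]; exact hw)
  refine ⟨h, b, ?_, hb⟩
  rintro rfl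
  apply hφ
  ext v
  have := LinearMap.congr_fun hb (ρ h v)
  simpa only [LinearMap.comp_apply, rho_inv, zero_smul, LinearMap.zero_apply] using this

omit [Fintype F] [Finite V] in
theorem exists_corr (hH : (Nat.card H : F) ≠ 0) (h1 : Tr1 ρ 1) [Nontrivial V] :
    ∃ Φ : V → (V →ₗ[F] F), (∀ x, x ≠ 0 → Φ x x = 1) ∧
      ∀ (x : V) (h : H) (c : F), x ≠ 0 → c ≠ 0 → Φ (c • ρ h x) = c⁻¹ • (Φ x).comp (ρ h⁻¹) := by
  obtain ⟨x0, hx0⟩ := exists_ne (0 : V)
  obtain ⟨φ, hφ1, hφ2⟩ := maschke_pt (ρ := ρ) hH hx0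
  let R : V → (V →ₗ[F] F) → Prop := fun x ψ =>
    ∃ (h : H) (c : F), c ≠ 0 ∧ x = c • ρ h x0 ∧ ψ = c⁻¹ • φ.comp (ρ h⁻¹)
  have hex : ∀ x, ∃ ψ, x ≠ 0 → R x ψ := by
    intro x
    by_cases hx : x = 0
    · exact ⟨0, fun h => absurd hx h⟩
    · obtain ⟨h, c, hc, e⟩ := pt_trans h1 hx0 hx
      exact ⟨_, fun _ => ⟨h, c⁻¹, inv_ne_zero hc, by rw [e, smul_smul, inv_mul_cancel₀ hc, one_smul],
        rfl⟩⟩
  have huniq : ∀ x ψ ψ', R x ψ → R x ψ' → ψ = ψ' := by
    rintro x _ _ ⟨h, c, hc, e, rfl⟩ ⟨h', c', hc', e', rfl⟩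
    have e2 : ρ (h'⁻¹ * h) x0 = (c⁻¹ * c') • x0 := by
      rw [rho_mul]
      apply rho_inj (ρ := ρ) h'
      rw [rho_inv', map_smul, mul_smul, ← e', e, smul_smul, inv_mul_cancel₀ hc, one_smul]
    ext v
    have := hφ2 _ _ e2 (ρ h⁻¹ v)
    rw [rho_mul, rho_inv'] at this
    simp only [LinearMap.smul_apply, LinearMap.comp_apply, smul_eq_mul, this]
    field_simp
  choose Φ hΦ using hex
  refine ⟨Φ, fun x hx => ?_, fun x h c hx hc => ?_⟩
  · obtain ⟨h, c, hc, e, e'⟩ := hΦ x hx
    rw [e']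
    conv_lhs => rw [e]
    simp only [LinearMap.smul_apply, LinearMap.comp_apply, map_smul, rho_inv, hφ1, smul_eq_mul]
    field_simp
  · have hx' : c • ρ h x ≠ 0 := smul_ne_zero hc (fun e => hx (rho_inj (ρ := ρ) h (by simpa using e)))
    refine huniq _ _ _ (hΦ _ hx') ?_
    obtain ⟨k, d, hd, e, e'⟩ := hΦ x hx
    refine ⟨h * k, c * d, mul_ne_zero hc hd, by rw [e, map_smul, rho_mul, smul_smul], ?_⟩
    rw [e']
    ext v
    simp only [LinearMap.smul_apply, LinearMap.comp_apply, smul_eq_mul, mul_inv_rev, rho_mul]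
    ring

omit [Group H] [Finite H] in
theorem card_sub_cast (T : Submodule F V) (hT : T ≠ ⊥) : (Nat.card T : F) = 0 := by
  have := Fintype.ofFinite T
  rw [Nat.card_eq_fintype_card, Module.card_eq_pow_finrank (K := F), Nat.cast_pow,
    FiniteField.cast_card_eq_zero, zero_pow]
  rwa [Ne, Submodule.finrank_eq_zero]

/-- the `p'`-case -/
theorem pprime (hinj : Function.Injective ρ) (hH : (Nat.card H : F) ≠ 0) (hn : 5 ≤ finrank F V)
    (h1 : Tr1 ρ 1) (h2 : Tr1 ρ 2) (h3 : Tr1 ρ (finrank F V - 1)) {r : ℕ} (hr : r.Prime)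
    (hm : orderOf (Fintype.card F : ZMod r) = finrank F V - 2) (hrH : r ∣ Nat.card H) : False := by
  classical
  have : Fact r.Prime := ⟨hr⟩
  have : Nontrivial V := Module.nontrivial_of_finrank_pos (R := F) (by omega)
  obtain ⟨g, hg⟩ := exists_prime_orderOf_dvd_card' r hrH
  have hg1 : ∀ h : H, ρ (h * g * h⁻¹) ≠ 1 := by
    intro h e
    have : h * g * h⁻¹ = 1 := hinj (by rw [e, map_one])
    have : g = 1 := by simpa using this
    rw [this, orderOf_one] at hg; exact hr.ne_one hg.symm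
  have hgr : g ^ r = 1 := orderOf_dvd_iff_pow_eq_one.mp (by rw [hg])
  obtain ⟨L0, hL0, hL0'⟩ := exists_fix (ρ := ρ) hr hm (by omega) hgr (by simpa using hg1 1) (by omega)
  obtain ⟨Φ, hΦ1, hΦ2⟩ := exists_corr (ρ := ρ) hH h1
  have hΦ0 : ∀ x, x ≠ 0 → Φ x ≠ 0 := fun x hx h => by
    have := hΦ1 x hx
    rw [h] at this; simp at this
  have hΦs : ∀ x (c : F), x ≠ 0 → c ≠ 0 → Φ (c • x) = c⁻¹ • Φ x := fun x c hx hc => by
    have := hΦ2 x 1 c hx hc
    simpa [End.one_eq_id] using this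
  have : Finite (V →ₗ[F] F) := Finite.of_injective (fun f : V →ₗ[F] F => (f : V → F))
    DFunLike.coe_injective
  let Ψ : {x : V // x ≠ 0} → {φ : V →ₗ[F] F // φ ≠ 0} := fun x => ⟨Φ x, hΦ0 x x.2⟩
  have hsurj : Function.Surjective Ψ := by
    intro ψ
    obtain ⟨x, hx⟩ := exists_ne (0 : V)
    obtain ⟨h, c, hc, e⟩ := hyp_trans h3 (hΦ0 x hx) ψ.2
    refine ⟨⟨c • ρ h x, smul_ne_zero hc (fun e => hx (rho_inj (ρ := ρ) h (by simpa using e)))⟩,
      Subtype.ext ?_⟩
    change Φ (c • ρ h x) = ψ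
    rw [hΦ2 x h c hx hc, e, smul_smul, inv_mul_cancel₀ hc, one_smul]
  have hcard : Nat.card {x : V // x ≠ 0} = Nat.card {φ : V →ₗ[F] F // φ ≠ 0} := by
    obtain ⟨e⟩ : Nonempty (V ≃ₗ[F] Module.Dual F V) :=
      FiniteDimensional.nonempty_linearEquiv_of_finrank_eq Subspace.dual_finrank_eq.symm
    exact Nat.card_congr (e.toEquiv.subtypeEquiv (fun x => by simp))
  have hinj' : Function.Injective Ψ := by
    obtain ⟨e⟩ := Finite.card_eq.mp hcard
    exact (Finite.injective_iff_surjective_of_equiv e).mpr hsurj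
  have hΦi : ∀ x y, x ≠ 0 → y ≠ 0 → Φ x = Φ y → x = y := fun x y hx hy e =>
    congrArg Subtype.val (hinj' (a₁ := ⟨x, hx⟩) (a₂ := ⟨y, hy⟩) (Subtype.ext e))
  -- additivity
  have hadd : ∀ z x y, x ≠ 0 → y ≠ 0 → x + y ≠ 0 → Φ x z = 0 → Φ y z = 0 → Φ (x + y) z = 0 := by
    intro z x y hx hy hxy h4 h5
    by_cases hdep : y ∈ Submodule.span F {x}
    · obtain ⟨c, rfl⟩ := Submodule.mem_span_singleton.mp hdep
      have e : x + c • x = (1 + c) • x := by module
      rw [e] at hxy ⊢
      rw [hΦs x _ hx (left_ne_zero_of_smul hxy)]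
      simp [h4]
    · set L := Submodule.span F {x} ⊔ Submodule.span F {y} with hL
      have hL2 : finrank F L = 2 := by
        rw [hL, Submodule.finrank_sup_span_singleton hdep, finrank_span_singleton hx]
      obtain ⟨h, hh⟩ := h2 L0 L (by omega) hL2
      have hfix := move_fix hL0 hh
      obtain ⟨W, P⟩ := exists_PP (ρ := ρ) hr hm (by omega) (g := h * g * h⁻¹)
        (by rw [conj_pow, hgr]; simp) (hg1 h) hfix (by omega)
      have hW : ∀ u ∈ L, u ≠ 0 → ∀ w ∈ W, Φ u w = 0 := by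
        intro u hu hu0 w hw
        obtain ⟨v, rfl⟩ := P.rng' w hw
        have := hΦ2 u (h * g * h⁻¹) 1 hu0 one_ne_zero
        rw [one_smul, hfix u hu, inv_one, one_smul] at this
        rw [map_sub, sub_eq_zero]
        conv_lhs => rw [this]
        simp only [LinearMap.comp_apply, rho_inv]
      have hxL : x ∈ L := Submodule.mem_sup_left (Submodule.mem_span_singleton_self x)
      have hyL : y ∈ L := Submodule.mem_sup_right (Submodule.mem_span_singleton_self y)
      obtain ⟨l, hl, w, hw, rfl⟩ := Submodule.mem_sup.mp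
        (show z ∈ L ⊔ W by rw [P.compl.sup_eq_top]; trivial)
      rw [map_add, hW x hxL hx w hw, add_zero] at h4
      rw [map_add, hW y hyL hy w hw, add_zero] at h5
      rw [map_add, hW _ (L.add_mem hxL hyL) hxy w hw, add_zero]
      by_cases hl0 : l = 0
      · rw [hl0, map_zero]
      exfalso
      have hxl : x ∉ Submodule.span F {l} := by
        intro hx'
        obtain ⟨c, hc⟩ := Submodule.mem_span_singleton.mp hx'
        have := hΦ1 x hx
        conv_lhs at this => enter [2]; rw [← hc]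
        simp [h4] at this
      have hL' : Submodule.span F {l} ⊔ Submodule.span F {x} = L := by
        apply Submodule.eq_of_le_of_finrank_eq
        · exact sup_le ((Submodule.span_singleton_le_iff_mem _ _).mpr hl)
            ((Submodule.span_singleton_le_iff_mem _ _).mpr hxL)
        · rw [Submodule.finrank_sup_span_singleton hxl, finrank_span_singleton hl0, hL2]
      have e : Φ y = Φ y x • Φ x := by
        ext v
        obtain ⟨l', hl', w', hw', rfl⟩ := Submodule.mem_sup.mp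
          (show v ∈ L ⊔ W by rw [P.compl.sup_eq_top]; trivial)
        rw [← hL'] at hl'
        obtain ⟨a, ha, b, hb, rfl⟩ := Submodule.mem_sup.mp hl'
        obtain ⟨a, rfl⟩ := Submodule.mem_span_singleton.mp ha
        obtain ⟨b, rfl⟩ := Submodule.mem_span_singleton.mp hb
        simp [h4, h5, hW x hxL hx w' hw', hW y hyL hy w' hw', hΦ1 x hx, mul_comm]
      have hc0 : Φ y x ≠ 0 := fun h => hΦ0 y hy (by rw [e, h, zero_smul])
      have := hΦs x (Φ y x)⁻¹ hx (inv_ne_zero hc0)
      rw [inv_inv, ← e] at this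
      exact hdep (Submodule.mem_span_singleton.mpr ⟨_, hΦi _ _
        (smul_ne_zero (inv_ne_zero hc0) hx) hy this⟩)
  let S : V → Submodule F V := fun z =>
    { carrier := {x | x = 0 ∨ Φ x z = 0}
      zero_mem' := Or.inl rfl
      add_mem' := fun {x y} hx hy => by
        by_cases hx0 : x = 0
        · simpa [hx0] using hy
        by_cases hy0 : y = 0
        · simpa [hy0] using hx
        by_cases hxy : x + y = 0
        · exact Or.inl hxy
        exact Or.inr (hadd z x y hx0 hy0 hxy (hx.resolve_left hx0) (hy.resolve_left hy0))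
      smul_mem' := fun c x hx => by
        by_cases hc : c = 0
        · left; simp [hc]
        by_cases hx0 : x = 0
        · left; simp [hx0]
        right
        rw [hΦs x c hx0 hc]
        simp [hx.resolve_left hx0] }
  -- `S z` has dimension at least two
  have hS : ∀ z (φ : V →ₗ[F] F), LinearMap.ker φ ⊓ S z ≠ ⊥ := by
    intro z φ hbot
    have hz : 2 ≤ finrank F (Submodule.span F {z}).dualAnnihilator := by
      have := Subspace.finrank_add_finrank_dualAnnihilator_eq (Submodule.span F {z})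
      have h4 : finrank F (Submodule.span F {z}) ≤ 1 := by
        simpa using finrank_span_le_card (R := F) ({z} : Set V)
      omega
    obtain ⟨A, -, hA, hA'⟩ := exists_between (S := ⊥) (T := (Submodule.span F {z}).dualAnnihilator)
      bot_le (k := 1) (by simp) (by omega)
    obtain ⟨ψ, hψ, hψ0⟩ := Submodule.exists_mem_ne_zero_of_ne_bot (p := A) (by
      rintro rfl; simp at hA')
    obtain ⟨χ, hχ, hχ'⟩ : ∃ χ ∈ (Submodule.span F {z}).dualAnnihilator, χ ∉ A := by
      by_contra hn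
      push Not at hn
      have := Submodule.finrank_mono (show _ ≤ A from hn)
      omega
    obtain ⟨⟨x, hx⟩, e1⟩ := hsurj ⟨ψ, hψ0⟩
    obtain ⟨⟨y, hy⟩, e2⟩ := hsurj ⟨χ, fun h => hχ' (h ▸ A.zero_mem)⟩
    have e1' : Φ x = ψ := congrArg Subtype.val e1
    have e2' : Φ y = χ := congrArg Subtype.val e2
    have hxS : x ∈ S z := Or.inr (by
      rw [e1']; exact (Submodule.mem_dualAnnihilator _).mp (hA hψ) z (Submodule.mem_span_singleton_self z))
    have hyS : y ∈ S z := Or.inr (by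
      rw [e2']; exact (Submodule.mem_dualAnnihilator _).mp hχ z (Submodule.mem_span_singleton_self z))
    have key : ∀ u ∈ S z, φ u = 0 → u = 0 := fun u hu h =>
      (Submodule.mem_bot F).mp (hbot ▸ (⟨h, hu⟩ : u ∈ LinearMap.ker φ ⊓ S z))
    have hφx : φ x ≠ 0 := fun h => hx (key x hxS h)
    have := key (y - (φ y / φ x) • x) ((S z).sub_mem hyS ((S z).smul_mem _ hxS)) (by simp [hφx])
    rw [sub_eq_zero] at this
    have hc : φ y / φ x ≠ 0 := by
      intro h; rw [h, zero_smul] at this; exact hy this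
    apply hχ'
    rw [← e2', this, hΦs x _ hx hc, e1']
    exact A.smul_mem _ hψ
  have := Fintype.ofFinite V
  have cnt : ∀ (T : Submodule F V) (pr : {x : V // x ≠ 0} → Prop) [DecidablePred pr], T ≠ ⊥ →
      (∀ y, pr y ↔ y.1 ∈ T) → ∑ y : {x : V // x ≠ 0}, (if pr y then (1 : F) else 0) = -1 := by
    intro T pr _ hT hpr
    rw [Finset.sum_boole]
    have h4 : (Finset.univ.filter pr).card + 1 = Nat.card T := by
      rw [Nat.card_eq_fintype_card, Fintype.card_subtype,
        ← Finset.card_erase_add_one (s := Finset.univ.filter (fun x => x ∈ T)) (a := 0) (by simp)]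
      congr 1
      refine Finset.card_bij (fun y _ => y.1) ?_ ?_ ?_
      · intro y hy
        simp only [Finset.mem_filter, Finset.mem_univ, true_and] at hy
        simp [y.2, (hpr y).mp hy]
      · intro a _ b _ h; exact Subtype.ext h
      · intro b hb
        simp only [Finset.mem_erase, Finset.mem_filter, Finset.mem_univ, true_and] at hb
        exact ⟨⟨b, hb.1⟩, by simp [hpr, hb.2], rfl⟩
    have h5 := card_sub_cast T hT
    rw [← h4] at h5
    push_cast at h5
    exact eq_neg_of_add_eq_zero_left h5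
  let A : Matrix {x : V // x ≠ 0} {x : V // x ≠ 0} F :=
    fun x y => (if Φ x y = 0 then 1 else 0) - 1
  have hA : A * A = 0 := by
    ext x z
    rw [Matrix.mul_apply]
    have e : ∀ y : {x : V // x ≠ 0}, A x y * A y z =
        (if Φ x y = 0 ∧ Φ y z = 0 then (1 : F) else 0) - (if Φ x y = 0 then 1 else 0) -
          (if Φ y z = 0 then 1 else 0) + (if True then 1 else 0) := by
      intro y
      simp only [A]
      by_cases a : Φ x y = 0 <;> by_cases b : Φ y z = 0 <;> simp [a, b]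
    simp only [e, Finset.sum_add_distrib, Finset.sum_sub_distrib]
    rw [cnt (LinearMap.ker (Φ x) ⊓ S z) _ (hS z _) (fun y => by simp [S, y.2]),
      cnt (LinearMap.ker (Φ x)) _ (fun h => hS z (Φ x) (by rw [h, bot_inf_eq])) (fun y => by simp),
      cnt (S z) _ (fun h => hS z 0 (by rw [h, inf_bot_eq])) (fun y => by simp [S, y.2]),
      cnt ⊤ _ top_ne_bot (fun y => by simp)]
    simp
  have htr := (Matrix.isNilpotent_trace_of_isNilpotent (M := A) ⟨2, by rw [pow_two, hA]⟩).eq_zero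
  have : A.trace = - ∑ y : {x : V // x ≠ 0}, (if True then (1 : F) else 0) := by
    rw [← Finset.sum_neg_distrib]
    refine Finset.sum_congr rfl fun y _ => ?_
    simp [A, Matrix.diag, hΦ1 y y.2]
  rw [this, cnt ⊤ _ top_ne_bot (fun y => by simp)] at htr
  simp at htr

end Cfsg.Agent.R3
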