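import Cfsg.Agent.R3.Key

/-! Transitivity hypotheses, transvections. -/

set_option autoImplicit false

namespace Cfsg.Agent.R3

open Module

variable {F V H : Type*} [Field F] [AddCommGroup V] [Module F V] [Group H]

/-- transitive on `k`-subspaces -/
def Tr1 (ρ : Representation F H V) (k : ℕ) : Prop :=
  ∀ A B : Submodule F V, finrank F A = k → finrank F B = k → ∃ h : H, A.map (ρ h) = B

/-- transitive on flags of type `(k, l)` -/
def Tr2 (ρ : Representation F H V) (k l : ℕ) : Prop :=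
  ∀ A A' B B' : Submodule F V, finrank F A = k → finrank F A' = l → A ≤ A' →
    finrank F B = k → finrank F B' = l → B ≤ B' → ∃ h : H, A.map (ρ h) = B ∧ A'.map (ρ h) = B'

/-- transitive on flags of type `(k, l, m)` -/
def Tr3 (ρ : Representation F H V) (k l m : ℕ) : Prop :=
  ∀ A A' A'' B B' B'' : Submodule F V, finrank F A = k → finrank F A' = l → finrank F A'' = m →
    A ≤ A' → A' ≤ A'' → finrank F B = k → finrank F B' = l → finrank F B'' = m → B ≤ B' →
    B' ≤ B'' → ∃ h : H, A.map (ρ h) = B ∧ A'.map (ρ h) = B' ∧ A''.map (ρ h) = B''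

/-- `H` contains an element acting on `L` as the transvection `1 + x ⊗ φ` -/
def LocTv (ρ : Representation F H V) (L : Submodule F V) (x : V) (φ : V →ₗ[F] F) : Prop :=
  x ∈ L ∧ φ x = 0 ∧ ∃ h : H, ∀ v ∈ L, ρ h v = v + φ v • x

/-- `H` contains the transvection `1 + x ⊗ φ` -/
def Tv (ρ : Representation F H V) (x : V) (φ : V →ₗ[F] F) : Prop :=
  φ x = 0 ∧ ∃ h : H, ∀ v, ρ h v = v + φ v • x

/-- `H` contains a non-trivial transvection -/
def HasTv (ρ : Representation F H V) : Prop := ∃ x φ, x ≠ 0 ∧ φ ≠ 0 ∧ Tv ρ x φ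

variable {ρ : Representation F H V}

theorem exists_between [FiniteDimensional F V] {S T : Submodule F V} (h : S ≤ T) {k : ℕ}
    (h1 : finrank F S ≤ k) (h2 : k ≤ finrank F T) :
    ∃ A : Submodule F V, S ≤ A ∧ A ≤ T ∧ finrank F A = k := by
  induction k, h1 using Nat.le_induction with
  | base => exact ⟨S, le_rfl, h, rfl⟩
  | succ k hk ih =>
    obtain ⟨A, h3, h4, h5⟩ := ih (by omega)
    obtain ⟨v, hv, hv'⟩ : ∃ v ∈ T, v ∉ A := by
      by_contra hn
      push Not at hn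
      have := Submodule.finrank_mono (show T ≤ A from hn)
      omega
    refine ⟨A ⊔ Submodule.span F {v}, h3.trans le_sup_left,
      sup_le h4 ((Submodule.span_singleton_le_iff_mem _ _).mpr hv), ?_⟩
    rw [Submodule.finrank_sup_span_singleton hv', h5]

theorem exists_fun {S : Submodule F V} {v : V} (hv : v ∉ S) :
    ∃ φ : V →ₗ[F] F, φ v = 1 ∧ ∀ s ∈ S, φ s = 0 := by
  obtain ⟨f, h1, h2⟩ := S.exists_le_ker_of_notMem hv
  exact ⟨(f v)⁻¹ • f, by simp [h1], fun s hs => by simp [show f s = 0 from h2 hs]⟩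

theorem prop_of_ker {φ ψ : V →ₗ[F] F} (hψ : ψ ≠ 0) (h : ∀ v, ψ v = 0 → φ v = 0) :
    ∃ c : F, φ = c • ψ := by
  obtain ⟨v, hv⟩ : ∃ v, ψ v ≠ 0 := by
    by_contra hn
    push Not at hn
    exact hψ (LinearMap.ext hn)
  refine ⟨φ v / ψ v, LinearMap.ext fun w => ?_⟩
  have := h (w - (ψ w / ψ v) • v) (by simp [hv])
  simp only [map_sub, map_smul, smul_eq_mul, sub_eq_zero] at this
  simp only [LinearMap.smul_apply, smul_eq_mul, this]
  field_simp

theorem finrank_le_mul [FiniteDimensional F V] (N : End F V) (k : ℕ) :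
    finrank F V ≤ finrank F (LinearMap.range (N ^ k)) + k * finrank F (LinearMap.ker N) := by
  induction k with
  | zero => rw [pow_zero, End.one_eq_id, LinearMap.range_id]; simp
  | succ k ih =>
    have h1 := LinearMap.finrank_range_add_finrank_ker (N.domRestrict (LinearMap.range (N ^ k)))
    rw [LinearMap.range_domRestrict, ← LinearMap.range_comp, ← End.mul_eq_comp, ← pow_succ'] at h1
    have h2 : finrank F (LinearMap.ker (N.domRestrict (LinearMap.range (N ^ k)))) ≤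
        finrank F (LinearMap.ker N) := by
      rw [← Submodule.finrank_map_subtype_eq]
      apply Submodule.finrank_mono
      rintro _ ⟨x, hx, rfl⟩
      exact hx
    nlinarith

theorem exists_loc [FiniteDimensional F V] {p : ℕ} (hp : p.Prime) [CharP F p] {u : H}
    (hu : u ^ p = 1) (hu1 : ρ u ≠ 1) {l : ℕ} (hl : l = 1 ∨ (l = 2 ∧ p < finrank F V)) :
    ∃ (L : Submodule F V) (x : V) (φ : V →ₗ[F] F), finrank F L = l + 1 ∧ x ≠ 0 ∧
      (∃ v ∈ L, φ v ≠ 0) ∧ LocTv ρ L x φ := by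
  classical
  have : Fact p.Prime := ⟨hp⟩
  have hV : Nontrivial V := by
    by_contra hn
    rw [not_nontrivial_iff_subsingleton] at hn
    exact hu1 (Subsingleton.elim _ _)
  have : CharP (End F V) p := charP_of_injective_algebraMap (algebraMap F (End F V)).injective p
  set N : End F V := ρ u - 1 with hN
  have hNp : N ^ p = 0 := by
    rw [hN, sub_pow_char_of_commute p (Commute.one_right _), ← map_pow, hu]; simp
  have hN0 : N ≠ 0 := sub_ne_zero.mpr hu1
  have hex : ∃ k, N ^ (k + 2) = 0 := ⟨p, by rw [pow_add, hNp, zero_mul]⟩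
  have h1 := Nat.find_spec hex
  have h2 : N ^ (Nat.find hex + 1) ≠ 0 := by
    rcases Nat.eq_zero_or_pos (Nat.find hex) with h | h
    · rw [h]; simpa using hN0
    · have := Nat.find_min hex (m := Nat.find hex - 1) (by omega)
      rwa [show Nat.find hex - 1 + 2 = Nat.find hex + 1 by omega] at this
  obtain ⟨w, hw⟩ : ∃ w, (N ^ (Nat.find hex + 1)) w ≠ 0 := by
    by_contra hn
    push Not at hn
    exact h2 (LinearMap.ext hn)
  set v := (N ^ Nat.find hex) w with hv
  have hx0 : N v ≠ 0 := by rwa [hv, ← End.mul_apply, ← pow_succ']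
  have hx1 : N (N v) = 0 := by
    rw [hv, ← End.mul_apply, ← End.mul_apply, mul_assoc, ← pow_succ', ← pow_succ', h1]; rfl
  have hk : l ≤ finrank F (LinearMap.ker N) := by
    have h3 := finrank_le_mul N p
    rw [hNp, LinearMap.range_zero, finrank_bot, zero_add] at h3
    have h4 : 0 < finrank F V := finrank_pos
    rcases hl with rfl | ⟨rfl, h5⟩
    · rcases Nat.eq_zero_or_pos (finrank F (LinearMap.ker N)) with h | h
      · rw [h] at h3; omega
      · exact h
    · by_contra hn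
      have : finrank F (LinearMap.ker N) ≤ 1 := by omega
      nlinarith
  obtain ⟨A, h3, h4, h5⟩ := exists_between (S := Submodule.span F {N v}) (T := LinearMap.ker N)
    ((Submodule.span_singleton_le_iff_mem _ _).mpr hx1) (k := l)
    (by rw [finrank_span_singleton hx0]; omega) hk
  obtain ⟨φ, hφ1, hφ2⟩ := exists_fun (S := LinearMap.ker N) (v := v) hx0
  have hxA : N v ∈ A := h3 (Submodule.mem_span_singleton_self _)
  refine ⟨A ⊔ Submodule.span F {v}, N v, φ, ?_, hx0, ⟨v, Submodule.mem_sup_right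
    (Submodule.mem_span_singleton_self _), by simp [hφ1]⟩, Submodule.mem_sup_left hxA,
    hφ2 _ hx1, u, ?_⟩
  · rw [Submodule.finrank_sup_span_singleton (fun h => hx0 (h4 h)), h5]
  · intro y hy
    obtain ⟨a, ha, b, hb, rfl⟩ := Submodule.mem_sup.mp hy
    obtain ⟨c, rfl⟩ := Submodule.mem_span_singleton.mp hb
    have e : ∀ z, ρ u z = z + N z := fun z => by simp [hN]
    rw [e, map_add, map_add, show N a = 0 from h4 ha, hφ2 a (h4 ha)]
    simp [hφ1]

theorem hasTv_of_compl {L W : Submodule F V} (hc : IsCompl L W) {x : V} {φ : V →ₗ[F] F} {u : H}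
    (hx : x ∈ L) (hx0 : x ≠ 0) (hφ : φ x = 0) (hφ0 : ∃ v ∈ L, φ v ≠ 0)
    (h1 : ∀ v ∈ L, ρ u v = v + φ v • x) (h2 : ∀ w ∈ W, ρ u w = w) : HasTv ρ := by
  let ψ : V →ₗ[F] F := φ.comp (L.subtype.comp (L.projectionOnto W hc))
  have e1 : ∀ v ∈ L, ψ v = φ v := fun v hv => by
    simp [ψ, Submodule.projectionOnto_apply_left hc ⟨v, hv⟩]
  have e2 : ∀ w ∈ W, ψ w = 0 := fun w hw => by
    simp [ψ, Submodule.projectionOnto_apply_right hc ⟨w, hw⟩]
  obtain ⟨v, hv, hv0⟩ := hφ0
  refine ⟨x, ψ, hx0, fun h => hv0 (by rw [← e1 v hv, h]; rfl), by rw [e1 x hx, hφ], u, fun y => ?_⟩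
  obtain ⟨l, hl, w, hw, rfl⟩ := Submodule.mem_sup.mp
    (show y ∈ L ⊔ W by rw [hc.sup_eq_top]; trivial)
  rw [map_add, map_add, h1 l hl, h2 w hw, e1 l hl, e2 w hw]
  simp only [add_zero]; abel

theorem loc_pow {L : Submodule F V} {x : V} {φ : V →ₗ[F] F} {u : H} (hx : x ∈ L) (hφ : φ x = 0)
    (h : ∀ v ∈ L, ρ u v = v + φ v • x) (k : ℕ) :
    ∀ v ∈ L, ρ (u ^ k) v = v + ((k : F) * φ v) • x := by
  induction k with
  | zero => intro v _; simp
  | succ k ih =>
    intro v hv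
    rw [pow_succ', rho_mul, ih v hv, map_add, map_smul, h v hv, h x hx, hφ]
    push_cast; module

theorem loc_mem {L : Submodule F V} {x : V} {φ : V →ₗ[F] F} {u : H} (hx : x ∈ L)
    (h : ∀ v ∈ L, ρ u v = v + φ v • x) : ∀ v ∈ L, ρ u v ∈ L := fun v hv => by
  rw [h v hv]; exact L.add_mem hv (L.smul_mem _ hx)

theorem move_fix {g h : H} {L L' : Submodule F V} (hL : ∀ v ∈ L, ρ g v = v)
    (hh : L.map (ρ h) = L') : ∀ v ∈ L', ρ (h * g * h⁻¹) v = v := by
  rw [← hh]
  rintro _ ⟨v, hv, rfl⟩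
  rw [rho_mul, rho_inv, rho_mul, hL v hv]

/-- The key lemma. -/
theorem key [Fintype F] [Finite V] [Finite H] (hinj : Function.Injective ρ) {p : ℕ} (hp : p.Prime)
    [CharP F p] {r m : ℕ} (hr : r.Prime) (hm : orderOf (Fintype.card F : ZMod r) = m) (hm0 : 0 < m)
    (hpm : ¬ p ∣ m) {g : H} (hg : orderOf g = r) {L : Submodule F V} (hL : ∀ v ∈ L, ρ g v = v)
    (hrk : finrank F V = finrank F L + m) {x : V} {φ : V →ₗ[F] F} (hx0 : x ≠ 0)
    (hφ0 : ∃ v ∈ L, φ v ≠ 0) (h : LocTv ρ L x φ) : HasTv ρ := by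
  obtain ⟨hx, hφ, u, hu⟩ := h
  obtain ⟨W, P⟩ := exists_PP (ρ := ρ) hr hm hm0 (orderOf_dvd_iff_pow_eq_one.mp (by rw [hg])) (by
    intro h
    have : g = 1 := hinj (by rw [h, map_one])
    rw [this, orderOf_one] at hg; exact hr.ne_one hg.symm) hL hrk
  obtain ⟨n, hn, hn'⟩ := frattini hinj hr hm hm0 hg hL hrk (loc_mem hx hu)
  obtain ⟨a, h1, h2⟩ := P.cut' hinj hp hm0 hpm hn (fun v hv => by
    rw [pow_agree (loc_mem hx hu) hn' p v hv, loc_pow hx hφ hu p v hv]; simp)
  exact hasTv_of_compl P.compl hx hx0 hφ hφ0 (fun v hv => by rw [h1 v hv, hn' v hv, hu v hv]) h2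

/-- The key lemma, global form: `l + 1 = 2` or `3` is the dimension of the fixed space. -/
theorem key' [Fintype F] [Finite V] [Finite H] (hinj : Function.Injective ρ) {p : ℕ} (hp : p.Prime)
    [CharP F p] {r m : ℕ} (hr : r.Prime) (hm : orderOf (Fintype.card F : ZMod r) = m) (hm0 : 0 < m)
    (hpm : ¬ p ∣ m) {g : H} (hg : orderOf g = r) {L : Submodule F V} (hL : ∀ v ∈ L, ρ g v = v)
    (hrk : finrank F V = finrank F L + m) {l : ℕ} (hl : l = 1 ∨ (l = 2 ∧ p < finrank F V))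
    (hL' : finrank F L = l + 1) (htr : Tr1 ρ (l + 1)) (hpH : p ∣ Nat.card H) : HasTv ρ := by
  have : Fact p.Prime := ⟨hp⟩
  obtain ⟨u, hu⟩ := exists_prime_orderOf_dvd_card' p hpH
  obtain ⟨L', x, φ, h1, h2, h3, h4⟩ := exists_loc (ρ := ρ) hp
    (orderOf_dvd_iff_pow_eq_one.mp (by rw [hu]) : u ^ p = 1) (by
      intro h
      have : u = 1 := hinj (by rw [h, map_one])
      rw [this, orderOf_one] at hu; exact hp.ne_one hu.symm) hl
  obtain ⟨h, hh⟩ := htr L L' hL' h1
  exact key hinj hp hr hm hm0 hpm (g := h * g * h⁻¹) (by rw [← hg]; exact (MulAut.conj h).orderOf_eq g)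
    (move_fix hL hh) (by rw [hrk, hL', h1]) h2 h3 h4

namespace Tv

theorem zero (φ : V →ₗ[F] F) : Tv ρ 0 φ := ⟨by simp, 1, by simp⟩

theorem zero' (x : V) : Tv ρ x 0 := ⟨by simp, 1, by simp⟩

theorem add {x y : V} {φ : V →ₗ[F] F} (h1 : Tv ρ x φ) (h2 : Tv ρ y φ) : Tv ρ (x + y) φ := by
  obtain ⟨a1, g1, b1⟩ := h1
  obtain ⟨a2, g2, b2⟩ := h2
  refine ⟨by simp [a1, a2], g1 * g2, fun v => ?_⟩
  rw [rho_mul, b2, b1, map_add, map_smul, a2]
  module

theorem neg {x : V} {φ : V →ₗ[F] F} (h1 : Tv ρ x φ) : Tv ρ (-x) φ := by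
  obtain ⟨a1, g1, b1⟩ := h1
  refine ⟨by simp [a1], g1⁻¹, fun v => rho_inj (ρ := ρ) g1 ?_⟩
  rw [rho_inv', b1]
  simp [a1]

theorem smul {x : V} {φ : V →ₗ[F] F} {c : F} (h1 : Tv ρ x (c • φ)) (hc : c ≠ 0) :
    Tv ρ (c • x) φ := by
  obtain ⟨a1, g1, b1⟩ := h1
  refine ⟨by simpa [hc] using a1, g1, fun v => ?_⟩
  rw [b1]; simp [smul_smul, mul_comm]

theorem conj {x : V} {φ : V →ₗ[F] F} (h1 : Tv ρ x φ) (h : H) :
    Tv ρ (ρ h x) (φ.comp (ρ h⁻¹)) := by
  obtain ⟨a1, g1, b1⟩ := h1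
  refine ⟨by simp only [LinearMap.comp_apply, rho_inv, a1], h * g1 * h⁻¹, fun v => ?_⟩
  rw [rho_mul, rho_mul, b1, map_add, rho_inv', map_smul]; rfl

end Tv

/-- the additive group of coefficients -/
def tvCoef (ρ : Representation F H V) (x : V) (φ : V →ₗ[F] F) : AddSubgroup F where
  carrier := {c | Tv ρ (c • x) φ}
  zero_mem' := by simpa using Tv.zero φ
  add_mem' := fun {a b} ha hb => by simpa [add_smul] using Tv.add ha hb
  neg_mem' := fun {a} ha => by simpa using Tv.neg ha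

/-- the additive group of centres -/
def tvCen (ρ : Representation F H V) (φ : V →ₗ[F] F) : AddSubgroup V where
  carrier := {x | Tv ρ x φ}
  zero_mem' := Tv.zero φ
  add_mem' := Tv.add
  neg_mem' := Tv.neg

theorem card_coef_le [Finite F] [FiniteDimensional F V] (htr : Tr2 ρ 1 (finrank F V - 1))
    {x y : V} {φ ψ : V →ₗ[F] F} (hx : x ≠ 0) (hy : y ≠ 0) (hφ : φ ≠ 0) (hψ : ψ ≠ 0)
    (h1 : φ x = 0) (h2 : ψ y = 0) : Nat.card (tvCoef ρ x φ) ≤ Nat.card (tvCoef ρ y ψ) := by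
  obtain ⟨h, e1, e2⟩ := htr (Submodule.span F {x}) (LinearMap.ker φ) (Submodule.span F {y})
    (LinearMap.ker ψ) (finrank_span_singleton hx)
    (by have := Module.Dual.finrank_ker_add_one_of_ne_zero hφ; omega)
    ((Submodule.span_singleton_le_iff_mem _ _).mpr h1) (finrank_span_singleton hy)
    (by have := Module.Dual.finrank_ker_add_one_of_ne_zero hψ; omega)
    ((Submodule.span_singleton_le_iff_mem _ _).mpr h2)
  obtain ⟨a, ha⟩ := Submodule.mem_span_singleton.mp
    (show ρ h x ∈ Submodule.span F {y} from e1 ▸ ⟨x, Submodule.mem_span_singleton_self x, rfl⟩)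
  have ha0 : a ≠ 0 := by
    rintro rfl
    exact hx (rho_inj h (by rw [← ha]; simp))
  obtain ⟨b, hb⟩ := prop_of_ker (φ := φ.comp (ρ h⁻¹)) hψ (fun v hv => by
    obtain ⟨w, hw, rfl⟩ : v ∈ (LinearMap.ker φ).map (ρ h) := e2 ▸ hv
    simp only [LinearMap.comp_apply, rho_inv]; exact hw)
  have hb0 : b ≠ 0 := by
    rintro rfl
    apply hφ
    ext v
    have := LinearMap.congr_fun hb (ρ h v)
    simpa only [LinearMap.comp_apply, rho_inv, zero_smul, LinearMap.zero_apply] using this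
  refine Nat.card_le_card_of_injective (fun c => ⟨b * (c.1 * a), ?_⟩) ?_
  · have := (show Tv ρ (c.1 • x) φ from c.2).conj h
    rw [hb, map_smul, ← ha, smul_smul] at this
    have := this.smul hb0
    rwa [smul_smul] at this
  · intro c c' hc
    have := congrArg Subtype.val hc
    exact Subtype.ext (by simpa [hb0, ha0] using this)

theorem arith_tv {p e a s d : ℕ} (hp : p.Prime) (he : 0 < e) (hd : 2 ≤ d) (hs : 2 ≤ p ^ s)
    (hse : p ^ s ≤ p ^ e)
    (h : (p ^ e - 1) * (p ^ a - 1) = ((p ^ e) ^ d - 1) * (p ^ s - 1)) : p ^ s = p ^ e := by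
  set q := p ^ e with hq
  have hq2 : 2 ≤ q := le_trans hs hse
  have h1 : q ^ 2 ≤ q ^ d := Nat.pow_le_pow_right (by omega) hd
  have hb : 1 ≤ p ^ a := Nat.one_le_pow _ _ hp.pos
  have h2 : q < p ^ a := by
    by_contra hn
    have h3 : (q - 1) * (p ^ a - 1) ≤ (q - 1) * (q - 1) := Nat.mul_le_mul_left _ (by omega)
    have h4 : (q ^ 2 - 1) * 1 ≤ (q ^ d - 1) * (p ^ s - 1) := Nat.mul_le_mul (by omega) (by omega)
    obtain ⟨t, ht⟩ : ∃ t, q = t + 1 := ⟨q - 1, by omega⟩
    rw [h, ht] at h3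
    rw [ht] at h4
    have : (t + 1) ^ 2 - 1 = t * t + 2 * t := by rw [Nat.sub_eq_iff_eq_add (by nlinarith)]; ring
    rw [this] at h4
    simp only [Nat.add_sub_cancel] at h3
    nlinarith
  have h3 : q ∣ p ^ a := pow_dvd_pow p ((Nat.pow_lt_pow_iff_right hp.one_lt).mp h2).le
  obtain ⟨c, hc⟩ := h3
  have h4 : (q : ℤ) ∣ (p ^ s : ℕ) := by
    have h5 : 1 ≤ q ^ d := Nat.one_le_pow _ _ (by omega)
    have h6 : ((q : ℤ) - 1) * (q * c - 1) = (q ^ d - 1) * (((p ^ s : ℕ) : ℤ) - 1) := by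
      rw [hc] at h hb
      zify [hb, h5, show 1 ≤ q by omega, show 1 ≤ p ^ s by omega] at h
      push_cast
      exact h
    obtain ⟨d', rfl⟩ : ∃ d', d = d' + 1 := ⟨d - 1, by omega⟩
    exact ⟨q ^ d' * (((p ^ s : ℕ) : ℤ) - 1) - q * c + c + 1, by linear_combination h6⟩
  exact le_antisymm hse (Nat.le_of_dvd (by omega) (by exact_mod_cast h4))

/-- one transvection and transitivity on point-hyperplane flags give all transvections -/
theorem all_tv [Fintype F] [Finite V] (htr : Tr2 ρ 1 (finrank F V - 1)) (hn : 3 ≤ finrank F V)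
    (h : HasTv ρ) (x : V) (φ : V →ₗ[F] F) (hφ : φ x = 0) : Tv ρ x φ := by
  classical
  by_cases hx0 : x = 0
  · rw [hx0]; exact Tv.zero φ
  by_cases hφ0 : φ = 0
  · rw [hφ0]; exact Tv.zero' x
  obtain ⟨y, ψ, hy, hψ, h⟩ := h
  have := Fintype.ofFinite V
  set k := Nat.card (tvCoef ρ x φ) with hk
  have hk2 : 2 ≤ k := by
    refine le_trans ?_ (card_coef_le htr hy hx0 hψ hφ0 h.1 hφ)
    have : Nontrivial (tvCoef ρ y ψ) := ⟨⟨1, by simpa [tvCoef] using h⟩, 0, by simp⟩
    exact Finite.one_lt_card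
  have hall : ∀ u, u ≠ 0 → φ u = 0 → Nat.card (tvCoef ρ u φ) = k := fun u h1 h2 =>
    le_antisymm (card_coef_le htr h1 hx0 hφ0 hφ0 h2 hφ) (card_coef_le htr hx0 h1 hφ0 hφ0 hφ h2)
  let U : Finset V := Finset.univ.filter (fun u => u ≠ 0 ∧ φ u = 0)
  let B : Finset V := Finset.univ.filter (fun u => u ≠ 0 ∧ Tv ρ u φ)
  let C : Finset F := Finset.univ.filter (fun c => c ≠ 0)
  have hU : U.card = Fintype.card F ^ (finrank F V - 1) - 1 := by
    have h1 : U = (Finset.univ.filter (fun u => u ∈ LinearMap.ker φ)).erase 0 := by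
      ext u; simp [U]
    rw [h1, Finset.card_erase_of_mem (by simp), ← Fintype.card_subtype,
      Module.card_eq_pow_finrank (K := F) (V := LinearMap.ker φ)]
    have := Module.Dual.finrank_ker_add_one_of_ne_zero hφ0
    congr 2; omega
  have hB : B.card = Nat.card (tvCen ρ φ) - 1 := by
    have h1 : B = (Finset.univ.filter (fun u => u ∈ tvCen ρ φ)).erase 0 := by
      ext u; simp [B, tvCen]
    rw [h1, Finset.card_erase_of_mem (by simp), ← Fintype.card_subtype, Nat.card_eq_fintype_card]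
  have hC : C.card = Fintype.card F - 1 := by
    have h1 : C = Finset.univ.erase 0 := by ext c; simp [C]
    rw [h1, Finset.card_erase_of_mem (by simp), Finset.card_univ]
  have hcount : (C ×ˢ B).card = ∑ u ∈ U, (C.filter (fun c => Tv ρ (c • u) φ)).card := by
    rw [← Finset.card_sigma]
    symm
    refine Finset.card_bij' (fun t _ => (t.2, t.2 • t.1)) (fun t _ => ⟨t.1⁻¹ • t.2, t.1⟩) ?_ ?_ ?_ ?_
    · rintro ⟨u, c⟩ ht
      simp only [Finset.mem_sigma, U, C, Finset.mem_filter, Finset.mem_univ, true_and] at ht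
      simp [B, C, ht.1.1, ht.2.1, ht.2.2]
    · rintro ⟨c, b⟩ ht
      simp only [Finset.mem_product, B, C, Finset.mem_filter, Finset.mem_univ, true_and] at ht
      simp [U, C, ht.1, ht.2.1, ht.2.2, ht.2.2.1, smul_smul]
    · rintro ⟨u, c⟩ ht
      simp only [Finset.mem_sigma, U, C, Finset.mem_filter, Finset.mem_univ, true_and] at ht
      simp [smul_smul, ht.2.1]
    · rintro ⟨c, b⟩ ht
      simp only [Finset.mem_product, B, C, Finset.mem_filter, Finset.mem_univ, true_and] at ht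
      simp [smul_smul, ht.1]
  rw [Finset.sum_congr rfl (g := fun _ => k - 1) (fun u hu => by
    simp only [U, Finset.mem_filter, Finset.mem_univ, true_and] at hu
    have h1 : C.filter (fun c => Tv ρ (c • u) φ) =
        (Finset.univ.filter (fun c => c ∈ tvCoef ρ u φ)).erase 0 := by
      ext c; simp [C, tvCoef]
    rw [h1, Finset.card_erase_of_mem (by simp), ← Fintype.card_subtype, ← Nat.card_eq_fintype_card,
      hall u hu.1 hu.2]), Finset.sum_const, Finset.card_product, hU, hB, hC, smul_eq_mul] at hcount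
  obtain ⟨p, hp⟩ := CharP.exists F
  obtain ⟨e, hpp, he⟩ := FiniteField.card F p
  obtain ⟨a, -, ha⟩ := (Nat.dvd_prime_pow hpp).mp (show Nat.card (tvCen ρ φ) ∣ p ^ (e * finrank F V) by
    rw [pow_mul, ← he, ← Module.card_eq_pow_finrank, ← Nat.card_eq_fintype_card]
    exact AddSubgroup.card_addSubgroup_dvd_card _)
  have hkd : k ∣ p ^ (e : ℕ) := by
    rw [← he, ← Nat.card_eq_fintype_card]; exact AddSubgroup.card_addSubgroup_dvd_card _
  obtain ⟨s, -, hs⟩ := (Nat.dvd_prime_pow hpp).mp hkd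
  rw [ha, hs, he] at hcount
  have := arith_tv hpp e.pos (by omega) (hs ▸ hk2)
    (hs ▸ Nat.le_of_dvd (pow_pos hpp.pos _) hkd) hcount
  have htop : tvCoef ρ x φ = ⊤ := AddSubgroup.eq_top_of_card_eq _ (by
    rw [← hk, hs, this, ← he, Nat.card_eq_fintype_card])
  have : (1 : F) ∈ tvCoef ρ x φ := by rw [htop]; trivial
  simpa [tvCoef] using this

end Cfsg.Agent.R3
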